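import Cfsg.Agent.H882.Del.Form

/-!
# Deleted permutation modules: maximality

* `not_E_le_SG`;
* `core_eq` : `H` maximal in `E Q`, `H ≤ SG`, `P` perfect, normal in `H`: then `P` is the image of `Alt ι`;
* `not_maximal` : if `|ι| + 1 = 0` in `F` then no subgroup of `SG` is maximal in `E Q`.
-/

set_option autoImplicit false
set_option linter.unusedSectionVars false

namespace Cfsg.Agent.H882.Del

open QuadraticMap hiding proj
open Cfsg.Agent.LieClassical.OrthCore Cfsg.Agent.LieClassical.OrthTrans Cfsg.Agent.LieClassical.OrthFinite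
open Cfsg.Agent.H882.Ten
open scoped commutatorElement

variable {F : Type*} [Field F] {V : Type*} [AddCommGroup V] [Module F V]
variable {ι : Type*} [Fintype ι] [DecidableEq ι] {v : ι → V} {Q : QuadraticForm F V} {a : F}

theorem exists_not_mem (s : Finset ι) (h : s.card < Fintype.card ι) : ∃ k, k ∉ s := by
  by_contra hcon
  push Not at hcon
  have := Finset.card_le_card (fun x _ => hcon x : (Finset.univ : Finset ι) ⊆ s)
  rw [Finset.card_univ] at this
  omega

/-- Two vectors `v i ± u` of the same norm as `v i`. -/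
theorem exists_move [Finite F] (hG : Good Q) (i : ι) (hv : v i ≠ 0) :
    ∃ u : V, (∀ c : F, u ≠ c • v i) ∧ (∃ g ∈ E Q, g (v i) = v i + u) ∧ ∃ g ∈ E Q, g (v i) = v i - u := by
  obtain ⟨y, hy⟩ := hG.nondeg.exists_polar_ne hv
  obtain ⟨u, hu0, hu, hperp⟩ := exists_sing_perp (Q := Q) ![v i, y] (by have := hG.dim; omega)
  have h1 : polar Q (v i) u = 0 := hperp 0
  have h2 : polar Q y u = 0 := hperp 1
  have h3 : ∀ c : F, u ≠ c • v i := by
    intro c hc
    rw [hc, QuadraticMap.polar_smul_right, smul_eq_mul, QuadraticMap.polar_comm] at h2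
    rcases mul_eq_zero.1 h2 with h | h
    · rw [h, zero_smul] at hc; exact hu0 hc
    · exact hy h
  refine ⟨u, h3, ?_, ?_⟩
  · refine hG.trans_norm hv ?_ ?_
    · intro h
      exact h3 (-1) (by rw [neg_one_smul]; exact eq_neg_of_add_eq_zero_right h)
    · rw [Q_add, h1, hu]; ring
  · refine hG.trans_norm hv ?_ ?_
    · intro h
      exact h3 1 (by rw [one_smul]; exact (sub_eq_zero.1 h).symm)
    · rw [sub_eq_add_neg, Q_add, QuadraticMap.polar_neg_right, h1, QuadraticMap.map_neg, hu]; ring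

section main

variable [Finite F] (S : Sys F v) (hg : Gr Q v a) (h2 : (2 : F) ≠ 0) (hG : Good Q)

include S h2 hG

theorem not_E_le_SG (h6 : 6 ≤ Fintype.card ι) : ¬ E Q ≤ SG F v := by
  intro hle
  obtain ⟨i, -, -⟩ := S.exists_two
  obtain ⟨u, hu, ⟨g, hgE, hg1⟩, ⟨g', hgE', hg1'⟩⟩ := exists_move hG i (S.ne_zero i)
  obtain ⟨σ, ε, -, h⟩ := hle hgE
  obtain ⟨τ, δ, -, h'⟩ := hle hgE'
  replace h := h i
  replace h' := h' i
  rw [hg1] at h
  rw [hg1'] at h'
  have hj : σ i ≠ i := by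
    intro hj
    rw [hj] at h
    exact hu (ε - 1) (by rw [sub_smul, one_smul]; exact eq_sub_of_add_eq' h)
  have hk : τ i ≠ i := by
    intro hk
    rw [hk] at h'
    exact hu (1 - δ) (by rw [sub_smul, one_smul, ← h']; abel)
  obtain ⟨l, hl⟩ := exists_not_mem {i, σ i, τ i} (lt_of_le_of_lt Finset.card_le_three (by omega))
  simp only [Finset.mem_insert, Finset.mem_singleton, not_or] at hl
  have h3 := S.eq_of_comb (c := Pi.single i 2) (d := Pi.single (σ i) ε + Pi.single (τ i) δ) (by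
    simp only [Pi.add_apply, add_smul, Finset.sum_add_distrib]
    rw [sum_single, sum_single, sum_single, ← h, ← h', two_smul]
    abel) (k := l) (by
    rw [Pi.add_apply, Pi.single_eq_of_ne hl.1, Pi.single_eq_of_ne hl.2.1, Pi.single_eq_of_ne hl.2.2, add_zero])
  have h4 := congrFun h3 i
  rw [Pi.add_apply, Pi.single_eq_same, Pi.single_eq_of_ne hj.symm, Pi.single_eq_of_ne hk.symm, add_zero] at h4
  exact h2 h4

include hg

/-- **The core of a maximal subgroup contained in `SG`.** -/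
theorem core_eq (h6 : 6 ≤ Fintype.card ι) {H P : Subgroup (V ≃ₗ[F] V)} (hH : Cfsg.Geo.IsMaximalIn (E Q) H)
    (hHS : H ≤ SG F v) (hPH : P ≤ H) (hn : ∀ h ∈ H, ∀ x ∈ P, h * x * h⁻¹ ∈ P) (hp : ⁅P, P⁆ = P) (hne : P ≠ ⊥) :
    P = altG S := by
  have hK : SG F v ⊓ E Q = H := by
    rcases hH.2 (SG F v ⊓ E Q) (le_inf hHS hH.1.le) inf_le_right with h | h
    · exact h
    · exact absurd (inf_eq_right.1 h) (not_E_le_SG S h2 hG h6)
  have hAH : altG S ≤ H := by
    rw [← hK]
    exact le_inf (altG_le_SG S) (altG_le_E S hg h2 hG (by omega))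
  have hPA : P ≤ altG S := by
    rw [← hp]
    exact (Subgroup.commutator_mono (hPH.trans hHS) (hPH.trans hHS)).trans (commutator_SG_le S)
  refine le_antisymm hPA ?_
  let f : alternatingGroup ι →* (V ≃ₗ[F] V) := S.perm.comp (alternatingGroup ι).subtype
  have hf : ∀ σ, f σ ∈ altG S := fun σ => ⟨σ, σ.2, rfl⟩
  have hN : (P.comap f).Normal := by
    constructor
    intro n hn' g
    rw [Subgroup.mem_comap, map_mul, map_mul, map_inv]
    exact hn _ (hAH (hf g)) _ hn'
  have hs : IsSimpleGroup (alternatingGroup ι) :=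
    alternatingGroup.isSimpleGroup (by rw [Nat.card_eq_fintype_card]; omega)
  rcases hs.eq_bot_or_eq_top_of_normal _ hN with h | h
  · exfalso
    apply hne
    rw [Subgroup.eq_bot_iff_forall]
    intro x hx
    obtain ⟨σ, hσ, rfl⟩ := hPA hx
    have h1 : (⟨σ, hσ⟩ : alternatingGroup ι) ∈ P.comap f := hx
    rw [h, Subgroup.mem_bot] at h1
    have h3 : σ = 1 := congrArg Subtype.val h1
    rw [h3, map_one]
  · rintro _ ⟨σ, hσ, rfl⟩
    have h1 : (⟨σ, hσ⟩ : alternatingGroup ι) ∈ P.comap f := by rw [h]; trivial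
    exact h1

end main

/-- `altG` is the alternating group. -/
theorem altG_equiv (S : Sys F v) (h3 : 3 ≤ Fintype.card ι) {m : ℕ} (hm : Fintype.card ι = m) :
    Nonempty (altG S ≃* alternatingGroup (Fin m)) := by
  let e1 : alternatingGroup ι ≃* altG S := (alternatingGroup ι).equivMapOfInjective S.perm (S.perm_injective h3)
  let e2 : ι ≃ Fin m := Fintype.equivFinOfCardEq hm
  exact ⟨e1.symm.trans e2.altCongrHom⟩

/-! ### The root system `A_m` -/

/-- The roots. -/
def rts (F : Type*) [Field F] {V : Type*} [AddCommGroup V] [Module F V] {ι : Type*} (v : ι → V) : Set V :=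
  {x | (∃ (i : ι) (ε : F), (ε = 1 ∨ ε = -1) ∧ x = ε • v i) ∨ ∃ i j, i ≠ j ∧ x = v i - v j}

theorem rts_neg {x : V} (hx : x ∈ rts F v) : -x ∈ rts F v := by
  rcases hx with ⟨i, ε, hε, rfl⟩ | ⟨i, j, hij, rfl⟩
  · refine Or.inl ⟨i, -ε, ?_, by rw [neg_smul]⟩
    rcases hε with rfl | rfl
    · right; rfl
    · left; rw [neg_neg]
  · exact Or.inr ⟨j, i, hij.symm, by rw [neg_sub]⟩

theorem rts_smul {x : V} (hx : x ∈ rts F v) {ε : F} (hε : ε = 1 ∨ ε = -1) : ε • x ∈ rts F v := by
  rcases hε with rfl | rfl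
  · rwa [one_smul]
  · rw [neg_one_smul]; exact rts_neg hx

/-- The stabiliser of the roots. -/
def stabR (Q : QuadraticForm F V) (v : ι → V) : Subgroup (V ≃ₗ[F] V) where
  carrier := {g | g ∈ O Q ∧ ∀ x, x ∈ rts F v ↔ g x ∈ rts F v}
  one_mem' := ⟨(O Q).one_mem, fun _ => Iff.rfl⟩
  mul_mem' ha hb := ⟨(O Q).mul_mem ha.1 hb.1, fun x => (hb.2 x).trans (ha.2 _)⟩
  inv_mem' {a} ha := ⟨(O Q).inv_mem ha.1, fun x => by
    have h2 : a (a⁻¹ x) = x := LinearEquiv.apply_symm_apply a x
    have h := ha.2 (a⁻¹ x)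
    rw [h2] at h
    exact h.symm⟩

theorem mem_stabR {g : V ≃ₗ[F] V} : g ∈ stabR Q v ↔ g ∈ O Q ∧ ∀ x, x ∈ rts F v ↔ g x ∈ rts F v := Iff.rfl

theorem mem_stabR_of {g : V ≃ₗ[F] V} (hg : g ∈ O Q) (h1 : ∀ x ∈ rts F v, g x ∈ rts F v)
    (h2 : ∀ x ∈ rts F v, g⁻¹ x ∈ rts F v) : g ∈ stabR Q v := by
  refine ⟨hg, fun x => ⟨h1 x, fun h => ?_⟩⟩
  have := h2 _ h
  have h3 : g⁻¹ (g x) = x := LinearEquiv.symm_apply_apply g x
  rwa [h3] at this

theorem SG_map_rts {g : V ≃ₗ[F] V} (hg : g ∈ SG F v) {x : V} (hx : x ∈ rts F v) : g x ∈ rts F v := by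
  obtain ⟨σ, ε, hε, h⟩ := hg
  rcases hx with ⟨i, δ, hδ, rfl⟩ | ⟨i, j, hij, rfl⟩
  · rw [map_smul, h, smul_comm]
    exact rts_smul (Or.inl ⟨σ i, δ, hδ, rfl⟩) hε
  · rw [map_sub, h, h, ← smul_sub]
    exact rts_smul (Or.inr ⟨σ i, σ j, fun h => hij (σ.injective h), rfl⟩) hε

theorem sum_sub_single (i j : ι) :
    ∑ l, (Pi.single i (1 : F) - Pi.single j (1 : F) : ι → F) l • v l = v i - v j := by
  simp only [Pi.sub_apply, sub_smul, Finset.sum_sub_distrib]
  rw [sum_single, sum_single, one_smul, one_smul]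

theorem rts_coeff (hn : (1 : F) ≠ -1) {x : V} (hx : x ∈ rts F v) :
    ∃ c : ι → F, x = ∑ i, c i • v i ∧ (∃ j k, ∀ l, l ≠ j → l ≠ k → c l = 0) ∧
      (∀ l, c l = 0 ∨ c l = 1 ∨ c l = -1) ∧
      ∀ i, c i = 1 → c = Pi.single i 1 ∨ ∃ j, j ≠ i ∧ c = Pi.single i 1 - Pi.single j 1 := by
  rcases hx with ⟨i, ε, hε, rfl⟩ | ⟨i, j, hij, rfl⟩
  · refine ⟨Pi.single i ε, (sum_single ε i).symm, ⟨i, i, fun l hl _ => Pi.single_eq_of_ne hl _⟩, fun l => ?_, fun k hk => ?_⟩
    · by_cases h : l = i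
      · subst h; rw [Pi.single_eq_same]; exact Or.inr hε
      · exact Or.inl (Pi.single_eq_of_ne h _)
    · by_cases h : k = i
      · subst h
        rw [Pi.single_eq_same] at hk
        rw [hk]; exact Or.inl rfl
      · rw [Pi.single_eq_of_ne h] at hk
        exact absurd hk zero_ne_one
  · refine ⟨Pi.single i 1 - Pi.single j 1, (sum_sub_single i j).symm, ⟨i, j, fun l hl hl' => ?_⟩, fun l => ?_,
      fun k hk => ?_⟩
    · rw [Pi.sub_apply, Pi.single_eq_of_ne hl, Pi.single_eq_of_ne hl', sub_zero]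
    · by_cases h : l = i
      · subst h
        rw [Pi.sub_apply, Pi.single_eq_same, Pi.single_eq_of_ne hij, sub_zero]
        exact Or.inr (Or.inl rfl)
      · by_cases h' : l = j
        · subst h'
          rw [Pi.sub_apply, Pi.single_eq_same, Pi.single_eq_of_ne h, zero_sub]
          exact Or.inr (Or.inr rfl)
        · rw [Pi.sub_apply, Pi.single_eq_of_ne h, Pi.single_eq_of_ne h', sub_zero]
          exact Or.inl rfl
    · by_cases h : k = i
      · subst h
        exact Or.inr ⟨j, hij.symm, rfl⟩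
      · exfalso
        by_cases h' : k = j
        · subst h'
          rw [Pi.sub_apply, Pi.single_eq_same, Pi.single_eq_of_ne h, zero_sub] at hk
          exact hn hk.symm
        · rw [Pi.sub_apply, Pi.single_eq_of_ne h, Pi.single_eq_of_ne h', sub_zero] at hk
          exact zero_ne_one hk

section nm

variable [Finite F] (S : Sys F v) (hg : Gr Q v a) (h2 : (2 : F) ≠ 0) (hG : Good Q)

include S h2 hG

theorem not_E_le_stabR (h3 : (3 : F) ≠ 0) (h6 : 6 ≤ Fintype.card ι) : ¬ E Q ≤ stabR Q v := by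
  intro hle
  have hn : (1 : F) ≠ -1 := by
    intro h
    apply h2
    linear_combination h
  obtain ⟨i, -, -⟩ := S.exists_two
  obtain ⟨u, hu, ⟨g, hgE, hg1⟩, ⟨g', hgE', hg1'⟩⟩ := exists_move hG i (S.ne_zero i)
  have hvi : v i ∈ rts F v := Or.inl ⟨i, 1, Or.inl rfl, by rw [one_smul]⟩
  have h4 := ((hle hgE).2 _).1 hvi
  have h5 := ((hle hgE').2 _).1 hvi
  rw [hg1] at h4
  rw [hg1'] at h5
  obtain ⟨c, hc, ⟨j, k, hjk⟩, hc1, hc2⟩ := rts_coeff hn h4
  obtain ⟨d, hd, ⟨j', k', hjk'⟩, hd1, hd2⟩ := rts_coeff hn h5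
  obtain ⟨l, hl⟩ := exists_not_mem {i, j, k, j', k'} (lt_of_le_of_lt Finset.card_le_five (by omega))
  simp only [Finset.mem_insert, Finset.mem_singleton, not_or] at hl
  have h7 := S.eq_of_comb (c := Pi.single i 2) (d := c + d) (by
    simp only [Pi.add_apply, add_smul, Finset.sum_add_distrib]
    rw [sum_single, ← hc, ← hd, two_smul]
    abel) (k := l) (by
    rw [Pi.add_apply, Pi.single_eq_of_ne hl.1, hjk l hl.2.1 hl.2.2.1, hjk' l hl.2.2.2.1 hl.2.2.2.2, add_zero])
  have h8 := congrFun h7 i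
  rw [Pi.add_apply, Pi.single_eq_same] at h8
  have hci : c i = 1 ∧ d i = 1 := by
    rcases hc1 i with h | h | h <;> rcases hd1 i with h' | h' | h' <;> rw [h, h'] at h8
    · exact absurd (by linear_combination h8) h2
    · exact absurd (by linear_combination h8) (one_ne_zero (α := F))
    · exact absurd (by linear_combination h8) h3
    · exact absurd (by linear_combination h8) (one_ne_zero (α := F))
    · exact ⟨h, h'⟩
    · exact absurd (by linear_combination h8) h2
    · exact absurd (by linear_combination h8) h3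
    · exact absurd (by linear_combination h8) h2
    · exfalso
      have h9 : (2 : F) * 2 = 0 := by linear_combination h8
      rcases mul_eq_zero.1 h9 with h | h <;> exact h2 h
  rcases hc2 i hci.1 with h | ⟨m, hm, h⟩
  · rw [h, sum_single, one_smul] at hc
    apply hu 0
    rw [zero_smul]
    exact left_eq_add.1 hc.symm
  · have h9 := congrFun h7 m
    rw [Pi.add_apply, h, Pi.sub_apply, Pi.single_eq_same, Pi.single_eq_of_ne hm, Pi.single_eq_of_ne hm, zero_sub] at h9
    rcases hd2 i hci.2 with h' | ⟨m', hm', h'⟩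
    · rw [h', Pi.single_eq_of_ne hm, add_zero] at h9
      exact one_ne_zero (α := F) (by linear_combination h9)
    · rw [h', Pi.sub_apply, Pi.single_eq_of_ne hm] at h9
      by_cases hmm : m = m'
      · subst hmm
        rw [Pi.single_eq_same] at h9
        exact h2 (by linear_combination h9)
      · rw [Pi.single_eq_of_ne hmm] at h9
        exact one_ne_zero (α := F) (by linear_combination h9)

include hg

/-- If `|ι| + 1 = 0` in `F` then no maximal subgroup of `E Q` is contained in `SG`. -/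
theorem not_maximal (h3 : (3 : F) ≠ 0) (h6 : 6 ≤ Fintype.card ι) (hm : (Fintype.card ι : F) + 1 = 0)
    {H : Subgroup (V ≃ₗ[F] V)} (hH : Cfsg.Geo.IsMaximalIn (E Q) H) : ¬ H ≤ SG F v := by
  intro hHS
  have ha : a ≠ 0 := a_ne S hg hG.nondeg
  have hcard : (Fintype.card ι : F) = -1 := by linear_combination hm
  have hself : ∀ i, polar Q (v i) (v i) = 2 * a := by
    intro i
    rw [gr_self S hg, hcard]; ring
  have hQv : ∀ i, Q (v i) = a := by
    intro i
    have h := hself i
    rw [polar_self'] at h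
    exact mul_left_cancel₀ h2 h
  have hQv' : ∀ i, Q (v i) ≠ 0 := fun i => by rw [hQv]; exact ha
  have hr1 : ∀ k, refl Q (v k) (hQv' k) (v k) = -v k := by
    intro k
    rw [refl_apply, hself, hQv]
    have e : a⁻¹ * (2 * a) = 2 := by field_simp
    rw [e, two_smul]; abel
  have hr2 : ∀ k i, k ≠ i → refl Q (v k) (hQv' k) (v i) = v i - v k := by
    intro k i hki
    rw [refl_apply, hg k i hki, hQv, inv_mul_cancel₀ ha, one_smul]
  have hmap : ∀ k, ∀ x ∈ rts F v, refl Q (v k) (hQv' k) x ∈ rts F v := by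
    intro k x hx
    rcases hx with ⟨i, ε, hε, rfl⟩ | ⟨i, j, hij, rfl⟩
    · rw [map_smul]
      refine rts_smul ?_ hε
      by_cases h : k = i
      · subst h
        rw [hr1]
        exact Or.inl ⟨k, -1, Or.inr rfl, by rw [neg_one_smul]⟩
      · rw [hr2 k i h]
        exact Or.inr ⟨i, k, Ne.symm h, rfl⟩
    · rw [map_sub]
      by_cases h : k = i
      · subst h
        rw [hr1, hr2 k j hij]
        refine Or.inl ⟨j, -1, Or.inr rfl, ?_⟩
        rw [neg_one_smul]; abel
      · by_cases h' : k = j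
        · subst h'
          rw [hr1, hr2 k i h]
          refine Or.inl ⟨i, 1, Or.inl rfl, ?_⟩
          rw [one_smul]; abel
        · rw [hr2 k i h, hr2 k j h']
          refine Or.inr ⟨i, j, hij, ?_⟩
          abel
  have hrefl : ∀ k, refl Q (v k) (hQv' k) ∈ stabR Q v := fun k =>
    mem_stabR_of (refl_mem_O _) (hmap k) (by rw [refl_inv]; exact hmap k)
  have hSG : SG F v ≤ stabR Q v := fun g hg' =>
    mem_stabR_of (SG_le_O S hg h2 hg') (fun x hx => SG_map_rts hg' hx) (fun x hx => SG_map_rts (inv_mem hg') hx)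
  have h1 : H ≤ stabR Q v ⊓ E Q := le_inf (hHS.trans hSG) hH.1.le
  obtain ⟨i, j, hij⟩ := S.exists_two
  have hne : refl Q (v j) (hQv' j) * refl Q (v i) (hQv' i) ∈ stabR Q v ⊓ E Q :=
    ⟨mul_mem (hrefl j) (hrefl i), hG.refl_mul_refl_mem (hQv' i) (hQv' j) (by rw [hQv, hQv])⟩
  rcases hH.2 _ h1 inf_le_right with h | h
  · rw [h] at hne
    obtain ⟨σ, ε, -, hσ⟩ := hHS hne
    obtain ⟨k, hk⟩ := exists_not_mem {i, j} (lt_of_le_of_lt Finset.card_le_two (by omega))
    simp only [Finset.mem_insert, Finset.mem_singleton, not_or] at hk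
    have h4 := hσ k
    change refl Q (v j) (hQv' j) (refl Q (v i) (hQv' i) (v k)) = _ at h4
    rw [hr2 i k (Ne.symm hk.1), map_sub, hr2 j k (Ne.symm hk.2), hr2 j i (Ne.symm hij)] at h4
    have h5 : v k - v i = ε • v (σ k) := by rw [← h4]; abel
    obtain ⟨l, hl⟩ := exists_not_mem {k, i, σ k} (lt_of_le_of_lt Finset.card_le_three (by omega))
    simp only [Finset.mem_insert, Finset.mem_singleton, not_or] at hl
    have h7 := S.eq_of_comb (c := Pi.single k 1 - Pi.single i 1) (d := Pi.single (σ k) ε) (by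
      rw [sum_sub_single, sum_single, h5]) (k := l) (by
      rw [Pi.sub_apply, Pi.single_eq_of_ne hl.1, Pi.single_eq_of_ne hl.2.1, Pi.single_eq_of_ne hl.2.2, sub_zero])
    have h8 := congrFun h7 k
    have h9 := congrFun h7 i
    rw [Pi.sub_apply, Pi.single_eq_same, Pi.single_eq_of_ne hk.1, sub_zero] at h8
    rw [Pi.sub_apply, Pi.single_eq_same, Pi.single_eq_of_ne (Ne.symm hk.1), zero_sub] at h9
    by_cases hσk : σ k = k
    · rw [hσk, Pi.single_eq_of_ne (Ne.symm hk.1)] at h9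
      exact one_ne_zero (α := F) (by linear_combination -h9)
    · rw [Pi.single_eq_of_ne (Ne.symm hσk)] at h8
      exact one_ne_zero h8
  · exact not_E_le_stabR S h2 hG h3 h6 (inf_eq_right.1 h)

end nm

end Cfsg.Agent.H882.Del
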