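import Cfsg.Agent.H882.Del.Orbit
import Cfsg.Agent.H915.LD

/-!
# Deleted permutation modules: matrix groups

`mat_main` : `H` maximal in `omegaGL Q`, `P` a residual core of `H`, `K ≤ P` of index `n + 1` fixing `v0 ≠ 0`, ...
-/

set_option autoImplicit false
set_option linter.unusedSectionVars false

namespace Cfsg.Agent.H882.Del

open QuadraticMap hiding proj
open Cfsg.Agent.LieClassical.OrthCore Cfsg.Agent.LieClassical.OrthTrans Cfsg.Agent.LieClassical.OrthFinite
open Cfsg Cfsg.Geo Matrix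
open Cfsg.Agent.H915.LD

universe u

variable {ι : Type} [Fintype ι] [DecidableEq ι] {F : Type u} [Field F] [Finite F]

/-- The simple group `Soc P` if `P` is simple. -/
theorem soc_equiv {P : Subgroup (GL ι F)} (hC : Core P) {T : Type*} [Group T] (hT : IsSimpleGroup T) (e : P ≃* T) :
    Nonempty (Soc P ≃* T) := by
  have hs : IsSimpleGroup P := e.isSimpleGroup_congr.2 hT
  rcases hs.eq_bot_or_eq_top_of_normal ((scalars ι F).subgroupOf P) inferInstance with h | h
  · let e1 : P ≃* Soc P := (QuotientGroup.quotientBot (G := P)).symm.trans (QuotientGroup.quotientMulEquivOfEq h.symm)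
    exact ⟨e1.symm.trans e⟩
  · exfalso
    apply hC.nonabelian
    refine ⟨⟨fun a b => ?_⟩⟩
    induction a using QuotientGroup.induction_on with
    | H a =>
      induction b using QuotientGroup.induction_on with
      | H b =>
        have h1 : ∀ a : P, (a : P ⧸ (scalars ι F).subgroupOf P) = 1 := by
          intro a
          rw [QuotientGroup.eq_one_iff, h]; trivial
        rw [h1 a, h1 b]

theorem mat_main (h2 : (2 : F) ≠ 0) {Q : QuadraticForm F (ι → F)} (hQ : Nondeg Q) (h5 : 5 ≤ Fintype.card ι)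
    {H P : Subgroup (GL ι F)} (hH : IsMaximalIn (omegaGL (Q : (ι → F) → F)) H) (hPc : IsResidualCore H P)
    {K : Subgroup P} (hK : K.index = Fintype.card ι + 1) {v0 : ι → F} (h0 : v0 ≠ 0)
    (hfix : ∀ k ∈ K, ((k : GL ι F) : Matrix ι ι F) *ᵥ v0 = v0)
    (hdc : ∀ g ∉ K, ∀ g' ∉ K, ∃ k ∈ K, ∃ k' ∈ K, g' = k * g * k')
    (hl : ∀ h ∈ H, ∃ g ∈ P, ∃ c : F, (h : Matrix ι ι F) *ᵥ v0 = c • ((g : Matrix ι ι F) *ᵥ v0)) {m : ℕ}
    (hm : Fintype.card ι + 1 = m) :
    Nonempty (Soc P ≃* alternatingGroup (Fin m)) ∧ (m : F) ≠ 0 ∧ ((3 : F) ≠ 0 → (m : F) + 1 ≠ 0) := by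
  have hC : Core P := core_of_residual hPc
  have hG : Good Q := Cfsg.Agent.H883.Bridge.good_of_card hQ h5
  let E0 := glEquiv ι F
  have hap : ∀ (g : GL ι F) (v : ι → F), E0 g v = (g : Matrix ι ι F) *ᵥ v := fun g v => glEquiv_apply g v
  let P' : Subgroup ((ι → F) ≃ₗ[F] (ι → F)) := P.map E0.toMonoidHom
  let H' : Subgroup ((ι → F) ≃ₗ[F] (ι → F)) := H.map E0.toMonoidHom
  let eP : P ≃* P' := E0.subgroupMap P
  have heP : ∀ g : P, ((eP g : P') : (ι → F) ≃ₗ[F] (ι → F)) = E0 (g : GL ι F) := fun _ => rfl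
  let K' : Subgroup P' := K.map eP.toMonoidHom
  have hKmem : ∀ g : P, eP g ∈ K' ↔ g ∈ K := fun g => Subgroup.mem_map_iff_mem eP.injective
  have hsurj : ∀ g' : P', ∃ g : P, eP g = g' := eP.surjective
  have hH' : IsMaximalIn (E Q) H' := by
    have h := (Cfsg.Agent.H883.Bridge.isMaximalIn_map_iff E0 (omegaGL (Q : (ι → F) → F)) H).2 hH
    rwa [Cfsg.Agent.H883.Bridge.map_omegaGL_eq_E hG] at h
  have hfin : Module.finrank F (ι → F) = Fintype.card ι := Module.finrank_fintype_fun_eq_card F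
  subst hm
  obtain ⟨⟨e⟩, h3, h4⟩ := main (P := P') (H := H') (K := K') (v0 := v0) (Q := Q) (m := Fintype.card ι + 1) h2 hG hH'
    (Subgroup.map_mono hPc.le)
    (by
      rintro _ ⟨h, hh, rfl⟩ _ ⟨x, hx, rfl⟩
      refine ⟨h * x * h⁻¹, hPc.normal h hh x hx, ?_⟩
      simp)
    (by
      change ⁅P.map E0.toMonoidHom, P.map E0.toMonoidHom⁆ = _
      rw [← Subgroup.map_commutator, hPc.perfect])
    (by
      intro hb
      have h1 : P = ⊥ := (Subgroup.map_eq_bot_iff_of_injective P (f := E0.toMonoidHom) E0.injective).1 hb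
      subst h1
      exact hC.nonabelian ⟨⟨fun a b => by
        induction a using QuotientGroup.induction_on with
        | H a =>
          induction b using QuotientGroup.induction_on with
          | H b => rw [Subsingleton.elim a b]⟩⟩)
    (by
      intro W hW
      refine hC.absIrred.1 W fun s hs => ?_
      obtain ⟨g, hg, rfl⟩ := hs
      rintro _ ⟨w, hw, rfl⟩
      have := hW (E0 g) ⟨g, hg, rfl⟩ w hw
      rw [hap] at this
      rwa [Matrix.toLin'_apply])
    (by
      rw [hfin, ← hK]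
      exact Subgroup.index_map_equiv K eP)
    h0
    (by
      intro k hk
      obtain ⟨g, rfl⟩ := hsurj k
      rw [heP, hap]
      exact hfix g ((hKmem g).1 hk))
    (by
      intro g hg g' hg'
      obtain ⟨g, rfl⟩ := hsurj g
      obtain ⟨g', rfl⟩ := hsurj g'
      rw [hKmem] at hg hg'
      obtain ⟨k, hk, k', hk', e⟩ := hdc g hg g' hg'
      exact ⟨eP k, (hKmem k).2 hk, eP k', (hKmem k').2 hk', by rw [e, map_mul, map_mul]⟩)
    (by
      rintro _ ⟨h, hh, rfl⟩
      obtain ⟨g, hg, c, e⟩ := hl h hh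
      refine ⟨E0 g, ⟨g, hg, rfl⟩, c, ?_⟩
      change E0 h v0 = c • E0 g v0
      rw [hap, hap, e])
    (by rw [hfin])
  refine ⟨?_, h3, h4⟩
  exact soc_equiv hC (alternatingGroup.isSimpleGroup (by rw [Nat.card_eq_fintype_card, Fintype.card_fin]; omega))
    (eP.trans e)

end Cfsg.Agent.H882.Del
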