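import Cfsg.Agent.H882.Del.Tab
import Cfsg.Agent.SporadicA.M11Comp
import Cfsg.Agent.S0387
import Cfsg.Agent.S0388
import Cfsg.Agent.S0383
import Cfsg.Agent.MTwelveType.SylowModel

/-!
# The groups `M₁₁ ≤ M₁₂` and `L₂(11) ≤ M₁₁` (helper882)
-/

set_option autoImplicit false

namespace Cfsg.Agent.H882.Grp

open Cfsg Cfsg.Agent.SporadicA.GolayBase Cfsg.Agent.SporadicA.GolayPerm Cfsg.Agent.H882.Tab
open scoped Pointwise

theorem squareDodecad_mem : Cfsg.Spor.squareDodecad ∈ Cfsg.dodecads := Cfsg.Agent.SporadicA.M11Comp.sqD_mem_dodecads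

theorem zero_mem : (some 0 : GolayPt) ∈ Cfsg.Spor.squareDodecad := by decide +kernel

/-- The two descriptions of `M₁₁`. -/
def equiv11 : ↥(MulAction.stabilizer Cfsg.M24 Cfsg.Spor.squareDodecad ⊓
    MulAction.stabilizer Cfsg.M24 (some 0 : GolayPt)) ≃* Cfsg.Spor.M11 where
  toFun g := ⟨((g : Cfsg.M24) : Equiv.Perm GolayPt), ⟨(g : Cfsg.M24).2, g.2.1⟩, g.2.2⟩
  invFun g := ⟨⟨(g : Equiv.Perm GolayPt), g.2.1.1⟩, g.2.1.2, g.2.2⟩
  left_inv _ := rfl
  right_inv _ := rfl
  map_mul' _ _ := rfl

/-- The two descriptions of `M₁₂`. -/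
def equiv12 : ↥(MulAction.stabilizer Cfsg.M24 Cfsg.Spor.squareDodecad) ≃* Cfsg.Spor.M12 where
  toFun g := ⟨((g : Cfsg.M24) : Equiv.Perm GolayPt), (g : Cfsg.M24).2, g.2⟩
  invFun g := ⟨⟨(g : Equiv.Perm GolayPt), g.2.1⟩, g.2.2⟩
  left_inv _ := rfl
  right_inv _ := rfl
  map_mul' _ _ := rfl

theorem simple11 : IsSimpleGroup Spor.M11 :=
  equiv11.isSimpleGroup_congr.1 (Cfsg.Agent.S0388.result _ squareDodecad_mem _ zero_mem)

theorem card11 : Nat.card Spor.M11 = 7920 := by
  rw [← Nat.card_congr equiv11.toEquiv]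
  exact Cfsg.Agent.S0387.result _ squareDodecad_mem _ zero_mem

theorem simple12 : IsSimpleGroup Spor.M12 :=
  equiv12.isSimpleGroup_congr.1 (Cfsg.Agent.S0383.result _ squareDodecad_mem)

theorem card12 : Nat.card Spor.M12 = 95040 := Cfsg.Agent.MTwelveType.SylowModel.card_M12

/-- A simple group with an element of order `11`: proper subgroups of index dividing `12` have index `12`. -/
theorem index_twelve {G : Type*} [Group G] [Finite G] [IsSimpleGroup G] (h11 : 11 ∣ Nat.card G) {K : Subgroup G}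
    (hK : K.index ∣ 12) (hne : K ≠ ⊤) : K.index = 12 := by
  by_contra h12
  have h0 : K.index ≠ 0 := Subgroup.index_ne_zero_of_finite
  have hle : K.index ≤ 6 := by
    obtain ⟨k, hk⟩ := hK
    have : k ≠ 1 := by rintro rfl; omega
    have hk0 : k ≠ 0 := by rintro rfl; omega
    have : 2 ≤ k := by omega
    nlinarith
  -- the action on the cosets is faithful
  have hker : (MulAction.toPermHom G (G ⧸ K)).ker = ⊥ := by
    rcases (inferInstance : ((MulAction.toPermHom G (G ⧸ K)).ker).Normal).eq_bot_or_eq_top with h | h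
    · exact h
    · exfalso
      apply hne
      rw [eq_top_iff]
      intro g _
      have h1 : g ∈ (MulAction.toPermHom G (G ⧸ K)).ker := by rw [h]; trivial
      have h2 := Equiv.congr_fun (MonoidHom.mem_ker.1 h1) ((1 : G) : G ⧸ K)
      have h3 : ((g * 1 : G) : G ⧸ K) = ((1 : G) : G ⧸ K) := h2
      rw [mul_one] at h3
      simpa using QuotientGroup.eq.1 h3.symm
  have hinj : Function.Injective (MulAction.toPermHom G (G ⧸ K)) := (MonoidHom.ker_eq_bot_iff _).1 hker
  have hd : Nat.card G ∣ Nat.card (Equiv.Perm (G ⧸ K)) := Subgroup.card_dvd_of_injective _ hinj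
  rw [Nat.card_perm] at hd
  have h1 : 11 ∣ (Nat.card (G ⧸ K)).factorial := h11.trans hd
  rw [(by norm_num : Nat.Prime 11).dvd_factorial] at h1
  have : Nat.card (G ⧸ K) = K.index := rfl
  omega

/-- The stabiliser of the extra point. -/
def L0 : Subgroup Spor.M11 where
  carrier := {g | (g : Equiv.Perm GolayPt) none = none}
  one_mem' := rfl
  mul_mem' := by
    intro a b ha hb
    change (a : Equiv.Perm GolayPt) ((b : Equiv.Perm GolayPt) none) = none
    have ha' : (a : Equiv.Perm GolayPt) none = none := ha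
    have hb' : (b : Equiv.Perm GolayPt) none = none := hb
    rw [hb', ha']
  inv_mem' := by
    intro a ha
    have ha' : (a : Equiv.Perm GolayPt) none = none := ha
    change (a : Equiv.Perm GolayPt)⁻¹ none = none
    rw [Equiv.Perm.inv_eq_iff_eq, ha']

theorem mem_L0 {g : Spor.M11} : g ∈ L0 ↔ (g : Equiv.Perm GolayPt) none = none := Iff.rfl

theorem mem_K_iff {g : Equiv.Perm GolayPt} : g ∈ SporadicA.M11Comp.K ↔ g ∈ Spor.M11 := by
  have h0 : ∀ g : Equiv.Perm GolayPt, g ∈ MulAction.stabilizer (Equiv.Perm GolayPt) Spor.squareDodecad ↔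
      ∀ x ∈ SporadicA.M11Comp.sqD, g x ∈ SporadicA.M11Comp.sqD := by
    intro g
    rw [MulAction.mem_stabilizer_finset']
    rfl
  constructor
  · rintro ⟨h1, h2, h3⟩
    exact ⟨⟨h1, (h0 g).2 h2⟩, h3⟩
  · rintro ⟨⟨h1, h2⟩, h3⟩
    exact ⟨h1, (h0 g).1 h2, h3⟩

/-- The complementary dodecad -/
abbrev Pt : Type := {p : GolayPt // qrWord 0 p = 0}

theorem not_mem_iff (p : GolayPt) : p ∉ SporadicA.M11Comp.sqD ↔ qrWord 0 p = 0 := by
  rw [SporadicA.M11Comp.mem_sqD, not_not]

theorem card_Pt : Nat.card Pt = 12 := by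
  rw [Nat.card_eq_fintype_card]
  decide +kernel

theorem apply_mem (g : Spor.M11) {p : GolayPt} : qrWord 0 ((g : Equiv.Perm GolayPt) p) = 0 ↔ qrWord 0 p = 0 := by
  rw [← not_mem_iff, ← not_mem_iff]
  exact SporadicA.M11Comp.K_apply_mem (mem_K_iff.2 g.2) p

/-- The cosets of `L0` are the points of the complementary dodecad. -/
noncomputable def toPt : Spor.M11 ⧸ L0 → Pt :=
  Quotient.lift (fun g : Spor.M11 => (⟨(g : Equiv.Perm GolayPt) none, (apply_mem g).2 (by decide +kernel)⟩ : Pt))
    (by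
      intro a b hab
      have h1 : a⁻¹ * b ∈ L0 := QuotientGroup.leftRel_apply.1 hab
      apply Subtype.ext
      have h2 : (a : Equiv.Perm GolayPt)⁻¹ ((b : Equiv.Perm GolayPt) none) = none := h1
      rw [Equiv.Perm.inv_eq_iff_eq] at h2
      exact h2.symm)

theorem toPt_mk (g : Spor.M11) : (toPt (g : Spor.M11 ⧸ L0) : GolayPt) = (g : Equiv.Perm GolayPt) none := rfl

theorem toPt_smul (g : Spor.M11) (i : Spor.M11 ⧸ L0) :
    (toPt (g • i) : GolayPt) = (g : Equiv.Perm GolayPt) (toPt i : GolayPt) := by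
  induction i using QuotientGroup.induction_on with
  | H h => rfl

theorem toPt_bijective : Function.Bijective toPt := by
  constructor
  · intro i j hij
    induction i using QuotientGroup.induction_on with
    | H g =>
      induction j using QuotientGroup.induction_on with
      | H h =>
        have h1 : (g : Equiv.Perm GolayPt) none = (h : Equiv.Perm GolayPt) none := congrArg Subtype.val hij
        refine QuotientGroup.eq.2 ?_
        change (g : Equiv.Perm GolayPt)⁻¹ ((h : Equiv.Perm GolayPt) none) = none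
        rw [Equiv.Perm.inv_eq_iff_eq, h1]
  · rintro ⟨p, hp⟩
    obtain ⟨g, hg, h⟩ := SporadicA.M11Comp.step1 p ((not_mem_iff p).2 hp)
    exact ⟨((⟨g, mem_K_iff.1 hg⟩ : Spor.M11) : Spor.M11 ⧸ L0), Subtype.ext h⟩

noncomputable def ePt : Spor.M11 ⧸ L0 ≃ Pt := Equiv.ofBijective toPt toPt_bijective

theorem index_L0 : L0.index = 12 := by
  rw [Subgroup.index, Nat.card_congr ePt, card_Pt]

theorem card_L0 : Nat.card L0 = 660 := by
  have h := L0.card_mul_index
  rw [index_L0, card11] at h
  omega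

theorem isT_pow {g : Spor.M11} {P : ℕ} (h : IsT g P) (n : ℕ) : IsT (g ^ n : Spor.M11) ((pcomp P)^[n] pone) := by
  induction n with
  | zero => exact one11
  | succ n ih =>
    rw [pow_succ', Function.iterate_succ_apply']
    exact m11 h ih

theorem ne_of_isT {g h : Equiv.Perm GolayPt} {P Q : ℕ} (hg : IsT g P) (hh : IsT h Q) (i : ℕ) (hi : i < 24)
    (e : Nat.beq (papp P i) (papp Q i) = false) : g ≠ h := by
  intro h0
  have h1 := hg (pt i)
  rw [h0, hh, idx_pt hi] at h1
  rw [h1] at e
  simp at e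

theorem order11 {g : Spor.M11} {P r : ℕ} (h : IsT g P) (hr : r.Prime) (e : Nat.beq ((pcomp P)^[r] pone) pone = true)
    (i : ℕ) (hi : i < 24) (e' : Nat.beq (papp P i) (papp pone i) = false) : orderOf g = r := by
  have h1 : g ^ r = 1 := eq11 (isT_pow h r) one11 e
  refine ((Nat.dvd_prime hr).1 (orderOf_dvd_of_pow_eq_one h1)).resolve_left fun h2 => ?_
  rw [orderOf_eq_one_iff] at h2
  exact ne_of_isT h one11 i hi e' (congrArg Subtype.val h2)

theorem order_X : orderOf X = 3 := order11 iX (by norm_num) (by decide +kernel) 1 (by norm_num) (by decide +kernel)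

theorem order_XY : orderOf (X * Y) = 11 :=
  order11 (m11 iX iY) (by norm_num) (by decide +kernel) 1 (by norm_num) (by decide +kernel)

theorem order_AXY : orderOf (A * X * Y) = 5 :=
  order11 (m11 (m11 iA iX) iY) (by norm_num) (by decide +kernel) 1 (by norm_num) (by decide +kernel)

/-- Two distinct commuting involutions of `H` generate a four-group, so `4 ∣ |H|`. -/
theorem four_dvd {G : Type*} [Group G] [Finite G] {H : Subgroup G} {u h : G} (huH : u ∈ H) (hhH : h ∈ H) (hu2 : u * u = 1)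
    (hh2 : h * h = 1) (hu1 : u ≠ 1) (hh1 : h ≠ 1) (hne : u ≠ h) (hc : u * h = h * u) : 4 ∣ Nat.card H := by
  let V : Subgroup G :=
    { carrier := {1, u, h, u * h}
      one_mem' := by simp
      mul_mem' := by
        have e1 : u * (u * h) = h := by rw [← mul_assoc, hu2, one_mul]
        have e2 : h * (u * h) = u := by rw [hc, ← mul_assoc, hh2, one_mul]
        have e3 : u * h * u = h := by rw [mul_assoc, ← hc, e1]
        have e4 : u * h * h = u := by rw [mul_assoc, hh2, mul_one]
        have e5 : u * h * (u * h) = 1 := by rw [mul_assoc, e2, hu2]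
        rintro a b (rfl | rfl | rfl | rfl) (rfl | rfl | rfl | rfl) <;>
          simp only [Set.mem_insert_iff, Set.mem_singleton_iff, one_mul, mul_one, hu2, hh2, e1, e2, e3, e4, e5,
            true_or, or_true]
        rw [hc]
        simp
      inv_mem' := by
        have e1 : u⁻¹ = u := inv_eq_of_mul_eq_one_left hu2
        have e2 : h⁻¹ = h := inv_eq_of_mul_eq_one_left hh2
        rintro a (rfl | rfl | rfl | rfl) <;>
          simp only [Set.mem_insert_iff, Set.mem_singleton_iff, inv_one, mul_inv_rev, e1, e2, true_or, or_true]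
        rw [← hc]
        simp }
  have hV : V ≤ H := by
    rintro x (rfl | rfl | rfl | rfl)
    · exact H.one_mem
    · exact huH
    · exact hhH
    · exact H.mul_mem huH hhH
  have hcard : Nat.card V = 4 := by
    change Nat.card ({1, u, h, u * h} : Set G) = 4
    have h1 : u * h ≠ 1 := fun h0 => hne (by rw [eq_inv_of_mul_eq_one_left h0, inv_eq_of_mul_eq_one_left hh2])
    have h2 : u ≠ u * h := fun h0 => hh1 (by simpa using h0.symm)
    have h3 : h ≠ u * h := fun h0 => hu1 (by simpa using h0.symm)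
    change ({1, u, h, u * h} : Set G).ncard = 4
    rw [Set.ncard_insert_of_notMem, Set.ncard_insert_of_notMem, Set.ncard_pair h3]
    · rintro (h0 | h0)
      · exact hne h0
      · exact h2 h0
    · rintro (h0 | h0 | h0)
      · exact hu1 h0.symm
      · exact hh1 h0.symm
      · exact h1 h0.symm
  rw [← hcard]
  exact Subgroup.card_dvd_of_le hV

/-- `A, B, Y, X` generate `L0`. -/
theorem L0_le {T : Subgroup Spor.M11} (hA : A ∈ T) (hB : B ∈ T) (hY : Y ∈ T) (hX : X ∈ T) : L0 ≤ T := by
  have hfin : Finite Spor.M11 := Nat.finite_of_card_ne_zero (by rw [card11]; norm_num)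
  have hA0 : A ∈ L0 := idx_injective ((iA none).trans (by decide +kernel))
  have hB0 : B ∈ L0 := idx_injective ((iB none).trans (by decide +kernel))
  have hY0 : Y ∈ L0 := idx_injective ((iY none).trans (by decide +kernel))
  have hX0 : X ∈ L0 := idx_injective ((iX none).trans (by decide +kernel))
  have d3 : 3 ∣ Nat.card (T ⊓ L0 : Subgroup Spor.M11) := by
    rw [← order_X]
    exact Subgroup.orderOf_dvd_natCard _ ⟨hX, hX0⟩
  have d11 : 11 ∣ Nat.card (T ⊓ L0 : Subgroup Spor.M11) := by
    rw [← order_XY]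
    exact Subgroup.orderOf_dvd_natCard _ ⟨T.mul_mem hX hY, L0.mul_mem hX0 hY0⟩
  have d5 : 5 ∣ Nat.card (T ⊓ L0 : Subgroup Spor.M11) := by
    rw [← order_AXY]
    exact Subgroup.orderOf_dvd_natCard _ ⟨T.mul_mem (T.mul_mem hA hX) hY, L0.mul_mem (L0.mul_mem hA0 hX0) hY0⟩
  have d4 : 4 ∣ Nat.card (T ⊓ L0 : Subgroup Spor.M11) := by
    refine four_dvd (u := A) (h := B) ⟨hA, hA0⟩ ⟨hB, hB0⟩ rel.haa rel.hbb ?_ ?_ ?_ rel.hab
    · exact fun h => ne_of_isT iA one11 1 (by norm_num) (by decide +kernel) (congrArg Subtype.val h)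
    · exact fun h => ne_of_isT iB one11 4 (by norm_num) (by decide +kernel) (congrArg Subtype.val h)
    · exact fun h => ne_of_isT iA iB 1 (by norm_num) (by decide +kernel) (congrArg Subtype.val h)
  have hd : 660 ∣ Nat.card (T ⊓ L0 : Subgroup Spor.M11) := by omega
  have hle : Nat.card (T ⊓ L0 : Subgroup Spor.M11) ∣ Nat.card L0 := Subgroup.card_dvd_of_le inf_le_right
  rw [card_L0] at hle
  have he : Nat.card (T ⊓ L0 : Subgroup Spor.M11) = Nat.card L0 := by
    rw [card_L0]
    exact Nat.dvd_antisymm hle hd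
  have := Subgroup.eq_of_le_of_card_ge (inf_le_right : T ⊓ L0 ≤ L0) he.ge
  rw [← this]
  exact inf_le_left

end Cfsg.Agent.H882.Grp
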