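import Cfsg.Agent.H882.Del.Mat

/-!
# The lines fixed by the Sylow subgroups
-/

set_option autoImplicit false
set_option linter.unusedSectionVars false

namespace Cfsg.Agent.H882.Del

open Cfsg Cfsg.Geo Matrix
open scoped Pointwise

universe u

variable {ι : Type} [Fintype ι] [DecidableEq ι] {F : Type u} [Field F] [Finite F]

theorem mulVec_mul (a b : GL ι F) (v : ι → F) :
    ((a * b : GL ι F) : Matrix ι ι F) *ᵥ v = (a : Matrix ι ι F) *ᵥ ((b : Matrix ι ι F) *ᵥ v) := by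
  rw [Units.val_mul, Matrix.mulVec_mulVec]

theorem inv_mulVec (a : GL ι F) (v : ι → F) :
    ((a⁻¹ : GL ι F) : Matrix ι ι F) *ᵥ ((a : Matrix ι ι F) *ᵥ v) = v := by
  rw [← mulVec_mul, inv_mul_cancel, Units.val_one, Matrix.one_mulVec]

/-- Conjugation by an element of `H`. -/
def cjA {P : Subgroup (GL ι F)} (h : GL ι F) (h1 : ∀ x ∈ P, h * x * h⁻¹ ∈ P) (h2 : ∀ x ∈ P, h⁻¹ * x * h⁻¹⁻¹ ∈ P) :
    MulAut P where
  toFun x := ⟨h * x * h⁻¹, h1 x x.2⟩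
  invFun x := ⟨h⁻¹ * x * h⁻¹⁻¹, h2 x x.2⟩
  left_inv x := Subtype.ext (by
    change h⁻¹ * (h * x * h⁻¹) * h⁻¹⁻¹ = x
    group)
  right_inv x := Subtype.ext (by
    change h * (h⁻¹ * x * h⁻¹⁻¹) * h⁻¹ = x
    group)
  map_mul' x y := Subtype.ext (by
    change h * (x * y) * h⁻¹ = h * x * h⁻¹ * (h * y * h⁻¹)
    group)

/-- If the fixed space of a Sylow subgroup is the line spanned by `v0`, then `H` permutes the lines `F (g v0)`. -/
theorem lines_of_sylow {P H : Subgroup (GL ι F)} {r : ℕ} [Fact r.Prime] (U : Sylow r P) {v0 : ι → F}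
    (hfix : ∀ u ∈ U, ((u : GL ι F) : Matrix ι ι F) *ᵥ v0 = v0)
    (huniq : ∀ w : ι → F, (∀ u ∈ U, ((u : GL ι F) : Matrix ι ι F) *ᵥ w = w) → ∃ c : F, w = c • v0)
    (hn : ∀ h ∈ H, ∀ x ∈ P, h * x * h⁻¹ ∈ P) :
    ∀ h ∈ H, ∃ g ∈ P, ∃ c : F, (h : Matrix ι ι F) *ᵥ v0 = c • ((g : Matrix ι ι F) *ᵥ v0) := by
  intro h hh
  let α : MulAut P := cjA h (hn h hh) (hn h⁻¹ (inv_mem hh))
  obtain ⟨g, hg⟩ := MulAction.exists_smul_eq P U (α • U)
  have key : ∀ w : ι → F, w = ((g⁻¹ : P) : GL ι F).1 *ᵥ ((h : Matrix ι ι F) *ᵥ v0) → ∃ c : F, w = c • v0 := by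
    intro w hw
    refine huniq w fun u hu => ?_
    -- `g u g⁻¹ = h u' h⁻¹`
    have h1 : g * u * g⁻¹ ∈ (α • U : Sylow r P) := by
      rw [← hg]
      change g * u * g⁻¹ ∈ MulAut.conj g • (U : Subgroup P)
      exact Subgroup.mem_smul_pointwise_iff_exists _ _ _ |>.2 ⟨u, hu, rfl⟩
    obtain ⟨u', hu', e⟩ := (Subgroup.mem_smul_pointwise_iff_exists _ _ _).1
      (show g * u * g⁻¹ ∈ α • (U : Subgroup P) from h1)
    have e' : h * (u' : GL ι F) * h⁻¹ = (g : GL ι F) * u * (g : GL ι F)⁻¹ := congrArg Subtype.val e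
    rw [hw, ← mulVec_mul, ← mulVec_mul, ← mulVec_mul]
    have e2 : (u : GL ι F) * (((g⁻¹ : P) : GL ι F) * h) = ((g⁻¹ : P) : GL ι F) * h * (u' : GL ι F) := by
      have : (u : GL ι F) = (g : GL ι F)⁻¹ * (h * (u' : GL ι F) * h⁻¹) * g := by rw [e']; group
      rw [this]
      simp only [Subgroup.coe_inv]
      group
    have e3 : (u : GL ι F) * ((g⁻¹ : P) : GL ι F) * h = ((g⁻¹ : P) : GL ι F) * h * (u' : GL ι F) := by
      rw [← e2]; group
    first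
      | rw [e2, mulVec_mul _ (u' : GL ι F), hfix u' hu']
      | rw [e3, mulVec_mul _ (u' : GL ι F), hfix u' hu']
  obtain ⟨c, hc⟩ := key _ rfl
  refine ⟨g, g.2, c, ?_⟩
  rw [← Matrix.mulVec_smul, ← hc, ← mulVec_mul, Subgroup.coe_inv, mul_inv_cancel, Units.val_one, Matrix.one_mulVec]

end Cfsg.Agent.H882.Del
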