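import Cfsg.Agent.H883.Bridge
import Mathlib.GroupTheory.SpecificGroups.Alternating

/-!
# Deleted permutation modules (helper882)

`v : ι → V` spans `V`, `|ι| = dim V + 1`, `∑ v i = 0`.
-/

set_option autoImplicit false
set_option linter.unusedSectionVars false

namespace Cfsg.Agent.H882.Del

open QuadraticMap hiding proj
open Cfsg.Agent.LieClassical.OrthCore Cfsg.Agent.LieClassical.OrthTrans

variable {F : Type*} [Field F] {V : Type*} [AddCommGroup V] [Module F V]
variable {ι : Type*} [Fintype ι] [DecidableEq ι] {v : ι → V}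

/-- `V` is spanned by `|ι| = dim V + 1` vectors with sum zero. -/
structure Sys (F : Type*) [Field F] {V : Type*} [AddCommGroup V] [Module F V] {ι : Type*} [Fintype ι]
    (v : ι → V) : Prop where
  span : Submodule.span F (Set.range v) = ⊤
  card : Fintype.card ι = Module.finrank F V + 1
  pos : 0 < Module.finrank F V
  sum : ∑ i, v i = 0

namespace Sys

variable (S : Sys F v)

include S

/-- The relations between the `v i` are the multiples of `∑ v i = 0`. -/
theorem rel {c : ι → F} (h : ∑ i, c i • v i = 0) (i j : ι) : c i = c j := by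
  classical
  have hfin : Module.Finite F V := Module.finite_of_finrank_pos S.pos
  let Φ : (ι → F) →ₗ[F] V := Fintype.linearCombination F v
  have hΦ : ∀ c, Φ c = ∑ i, c i • v i := fun c => rfl
  have hsurj : LinearMap.range Φ = ⊤ := by
    rw [← S.span]
    exact Fintype.range_linearCombination F v
  have h1 := LinearMap.finrank_range_add_finrank_ker Φ
  rw [hsurj, finrank_top, Module.finrank_fintype_fun_eq_card, S.card] at h1
  have h2 : Module.finrank F (LinearMap.ker Φ) = 1 := by omega
  have hne : (fun _ : ι => (1 : F)) ≠ 0 := by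
    intro h0
    have hc : 0 < Fintype.card ι := by rw [S.card]; omega
    obtain ⟨i0⟩ := Fintype.card_pos_iff.1 hc
    exact one_ne_zero (congrFun h0 i0)
  have hmem : (fun _ : ι => (1 : F)) ∈ LinearMap.ker Φ := by
    rw [LinearMap.mem_ker, hΦ]
    simp only [one_smul]
    exact S.sum
  have h3 := (finrank_eq_one_iff_of_nonzero' (⟨_, hmem⟩ : LinearMap.ker Φ)
    (fun h0 => hne (congrArg Subtype.val h0))).1 h2 ⟨c, by rw [LinearMap.mem_ker, hΦ, h]⟩
  obtain ⟨a, ha⟩ := h3
  have h4 := congrArg Subtype.val ha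
  have h5 : ∀ i, a = c i := fun i => by
    have := congrFun h4 i
    simpa using this
  rw [← h5 i, ← h5 j]

/-- A linear map with prescribed values, compatible with the relation. -/
theorem exists_map {X : Type*} [AddCommGroup X] [Module F X] (w : ι → X) (hw : ∑ i, w i = 0) :
    ∃ f : V →ₗ[F] X, ∀ i, f (v i) = w i := by
  let Φ : (ι → F) →ₗ[F] V := Fintype.linearCombination F v
  have hΦ : ∀ c, Φ c = ∑ i, c i • v i := fun c => rfl
  have hsurj : Function.Surjective Φ := by
    rw [← LinearMap.range_eq_top, ← S.span]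
    exact Fintype.range_linearCombination F v
  obtain ⟨g, hg⟩ := Φ.exists_rightInverse_of_surjective (LinearMap.range_eq_top.2 hsurj)
  let Ψ : (ι → F) →ₗ[F] X := Fintype.linearCombination F w
  have hΨ : ∀ c, Ψ c = ∑ i, c i • w i := fun c => rfl
  refine ⟨Ψ ∘ₗ g, fun i => ?_⟩
  have hgv : Φ (g (v i)) = v i := LinearMap.congr_fun hg (v i)
  have h1 : Φ (Pi.single i 1) = v i := by
    rw [hΦ, Finset.sum_eq_single i]
    · simp
    · intro j _ hj; simp [hj]
    · simp
  have h2 : Φ (g (v i) - Pi.single i 1) = 0 := by rw [map_sub, hgv, h1, sub_self]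
  have h3 : Ψ (g (v i) - Pi.single i 1) = 0 := by
    rw [hΨ]
    rw [hΦ] at h2
    have h4 := S.rel h2
    rw [Finset.sum_congr rfl fun j _ => by rw [h4 j i], ← Finset.smul_sum, hw, smul_zero]
  have h5 : Ψ (Pi.single i 1) = w i := by
    rw [hΨ, Finset.sum_eq_single i]
    · simp
    · intro j _ hj; simp [hj]
    · simp
  rw [LinearMap.comp_apply]
  rw [map_sub, sub_eq_zero, h5] at h3
  exact h3

theorem ext {X : Type*} [AddCommGroup X] [Module F X] {f g : V →ₗ[F] X} (h : ∀ i, f (v i) = g (v i)) : f = g :=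
  LinearMap.ext_on_range (hv := S.span) h

theorem ext' {X : Type*} [AddCommGroup X] [Module F X] {f g : V ≃ₗ[F] X} (h : ∀ i, f (v i) = g (v i)) : f = g := by
  have := S.ext (f := (f : V →ₗ[F] X)) (g := (g : V →ₗ[F] X)) h
  ext x
  exact LinearMap.congr_fun this x

theorem exists_equiv (σ : Equiv.Perm ι) : ∃ f : V ≃ₗ[F] V, ∀ i, f (v i) = v (σ i) := by
  have h1 : ∀ σ : Equiv.Perm ι, ∑ i, v (σ i) = 0 := fun σ => by rw [Equiv.sum_comp σ v, S.sum]
  obtain ⟨f, hf⟩ := S.exists_map (fun i => v (σ i)) (h1 σ)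
  obtain ⟨g, hg⟩ := S.exists_map (fun i => v (σ⁻¹ i)) (h1 σ⁻¹)
  refine ⟨LinearEquiv.ofLinearMap f g (S.ext fun i => ?_) (S.ext fun i => ?_), fun i => hf i⟩
  · rw [LinearMap.comp_apply, hg, hf, LinearMap.id_apply]
    exact congrArg v (σ.apply_symm_apply i)
  · rw [LinearMap.comp_apply, hf, hg, LinearMap.id_apply]
    exact congrArg v (σ.symm_apply_apply i)

theorem exists_two : ∃ i j : ι, i ≠ j := by
  have : 1 < Fintype.card ι := by rw [S.card]; have := S.pos; omega
  obtain ⟨i, j, h⟩ := Fintype.exists_pair_of_one_lt_card this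
  exact ⟨i, j, h⟩

theorem ne_zero (i : ι) : v i ≠ 0 := by
  classical
  intro h
  have h1 : ∑ j, (Pi.single i (1 : F) : ι → F) j • v j = 0 := by
    rw [Finset.sum_eq_single i]
    · simp [h]
    · intro j _ hj; simp [hj]
    · simp
  obtain ⟨a, b, hab⟩ := S.exists_two
  have h2 := S.rel h1
  by_cases ha : a = i
  · subst ha
    have := h2 a b
    simp [hab.symm] at this
  · have := h2 a i
    simp [ha] at this

theorem injective (h3 : 3 ≤ Fintype.card ι) : Function.Injective v := by
  classical
  intro i j hij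
  by_contra hne
  have h1 : ∑ k, ((Pi.single i (1 : F) : ι → F) - (Pi.single j (1 : F) : ι → F)) k • v k = 0 := by
    simp only [Pi.sub_apply, sub_smul, Finset.sum_sub_distrib]
    rw [Finset.sum_eq_single i, Finset.sum_eq_single j]
    · simp [hij]
    · intro k _ hk; simp [hk]
    · simp
    · intro k _ hk; simp [hk]
    · simp
  have h2 := S.rel h1
  have h4 : ∃ k : ι, k ≠ i ∧ k ≠ j := by
    by_contra hcon
    push Not at hcon
    have hsub : (Finset.univ : Finset ι) ⊆ {i, j} := by
      intro k _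
      by_cases hk : k = i
      · simp [hk]
      · simp [hcon k hk]
    have := Finset.card_le_card hsub
    rw [Finset.card_univ] at this
    have h5 := Finset.card_le_two (a := i) (b := j)
    omega
  obtain ⟨k, hki, hkj⟩ := h4
  have := h2 i k
  simp [hne, hki, hkj] at this

/-- The action of the symmetric group. -/
noncomputable def perm : Equiv.Perm ι →* (V ≃ₗ[F] V) where
  toFun σ := Classical.choose (S.exists_equiv σ)
  map_one' := S.ext' fun i => Classical.choose_spec (S.exists_equiv 1) i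
  map_mul' σ τ := S.ext' fun i => by
    rw [Classical.choose_spec (S.exists_equiv (σ * τ)) i]
    show _ = (Classical.choose (S.exists_equiv σ)) ((Classical.choose (S.exists_equiv τ)) (v i))
    rw [Classical.choose_spec (S.exists_equiv τ) i, Classical.choose_spec (S.exists_equiv σ) (τ i)]
    rfl

theorem perm_apply (σ : Equiv.Perm ι) (i : ι) : S.perm σ (v i) = v (σ i) :=
  Classical.choose_spec (S.exists_equiv σ) i

theorem perm_injective (h3 : 3 ≤ Fintype.card ι) : Function.Injective S.perm := by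
  intro σ τ h
  ext i
  apply S.injective h3
  rw [← S.perm_apply, ← S.perm_apply, h]

end Sys

/-- The group of all `g` with `g (v i) = ε v (σ i)`, `ε = ± 1`. -/
def SG (F : Type*) [Field F] {V : Type*} [AddCommGroup V] [Module F V] {ι : Type*} (v : ι → V) :
    Subgroup (V ≃ₗ[F] V) where
  carrier := {g | ∃ (σ : Equiv.Perm ι) (ε : F), (ε = 1 ∨ ε = -1) ∧ ∀ i, g (v i) = ε • v (σ i)}
  one_mem' := ⟨1, 1, Or.inl rfl, fun i => by rw [one_smul]; rfl⟩
  mul_mem' := by
    rintro a b ⟨σ, ε, hε, h⟩ ⟨τ, δ, hδ, h'⟩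
    refine ⟨σ * τ, δ * ε, ?_, fun i => ?_⟩
    · rcases hε with rfl | rfl <;> rcases hδ with rfl | rfl <;> simp
    · show a (b (v i)) = _
      rw [h', map_smul, h, smul_smul]
      rfl
  inv_mem' := by
    rintro a ⟨σ, ε, hε, h⟩
    refine ⟨σ⁻¹, ε, hε, fun i => ?_⟩
    have h1 : ε * ε = 1 := by rcases hε with rfl | rfl <;> simp
    apply a.injective
    have h2 : a (a⁻¹ (v i)) = v i := LinearEquiv.apply_symm_apply a (v i)
    rw [h2, map_smul, h, smul_smul, h1, one_smul]
    exact congrArg v (σ.apply_symm_apply i).symm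

theorem mem_SG {v : ι → V} {g : V ≃ₗ[F] V} : g ∈ SG F v ↔
    ∃ (σ : Equiv.Perm ι) (ε : F), (ε = 1 ∨ ε = -1) ∧ ∀ i, g (v i) = ε • v (σ i) := Iff.rfl


end Cfsg.Agent.H882.Del
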