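import Cfsg.Agent.H882.Del.Dim

/-!
# Representations of dimension `11` of groups with the relations of `M₁₁` (helper882)
-/

set_option autoImplicit false
set_option linter.unusedSectionVars false

namespace Cfsg.Agent.H882.Dim

open Module Cfsg.Agent.H637.JW

/-- Relations in `M₁₁`: `⟨x, e⟩ = 3²`, `⟨s, a⟩ = SD₁₆` normalising it, `⟨a, b, y⟩ = A₄`, `⟨a, b, x⟩ = D₁₂`. -/
structure R11 {G : Type*} [Group G] (a b y x e s : G) : Prop where
  haa : a * a = 1
  hbb : b * b = 1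
  hab : a * b = b * a
  hy : y * y * y = 1
  hya : y * a = b * y
  hyb : y * b = a * b * y
  hx : x * x * x = 1
  hax : a * x = x * a
  hbx : b * x = x * x * b
  he : e * e * e = 1
  hxe : x * e = e * x
  hae : a * e = e * e * a
  hzz : s * s * (s * s) * (s * s * (s * s)) = 1
  haz : a * (s * s * (s * s)) = s * s * (s * s) * a
  hat : a * (s * s) = s * s * (s * s) * (s * s) * a
  hsx : s * x = x * e * s
  hse : s * e = x * x * e * s
  htx : s * s * x = e * e * (s * s)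
  hte : s * s * e = x * (s * s)
  hzx : s * s * (s * s) * x = x * x * (s * s * (s * s))
  hze : s * s * (s * s) * e = e * e * (s * s * (s * s))
  hca : IsConj a (s * s * (s * s))
  hcx : IsConj x y

variable {K : Type*} [Field K] {V : Type*} [AddCommGroup V] [Module K V] [FiniteDimensional K V]
  {G : Type*} [Group G] {σ : G →* Module.End K V} {a b y x e s : G}

theorem conj_eq {g h k : G} (h1 : k * g = h * k) : k * g * k⁻¹ = h := by rw [h1, mul_inv_cancel_right]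

theorem fix_sq {g : G} (hg : g * g * g = 1) : Fix σ (g * g) = Fix σ g := by
  ext v
  rw [mem_Fix, mem_Fix, mul_apply']
  constructor
  · intro h
    have h1 : σ g (σ g (σ g v)) = v := by rw [← mul_apply', ← mul_apply', hg, act_one]
    rw [h] at h1
    exact h1
  · intro h
    rw [h, h]

theorem fix_le_of_comm {g h : G} (hgh : g * h = h * g) {v : V} (hv : v ∈ Fix σ h) : σ g v ∈ Fix σ h := by
  rw [mem_Fix] at hv ⊢
  rw [← mul_apply', ← hgh, mul_apply', hv]

theorem fix_of_inv {g h : G} (hh : h * h * h = 1) (hgh : g * h = h * h * g) {v : V} (hv : v ∈ Fix σ h) :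
    σ g v ∈ Fix σ h := by
  rw [← fix_sq hh, mem_Fix, ← mul_apply', ← hgh, mul_apply', mem_Fix.1 hv]

theorem om_of_comm {g h : G} (hgh : g * h = h * g) {v : V} (hv : v ∈ Om σ h) : σ g v ∈ Om σ h := by
  rw [mem_Om] at hv ⊢
  have h1 : ∀ v, σ h (σ g v) = σ g (σ h v) := fun v => by rw [← mul_apply', ← hgh, mul_apply']
  rw [h1, h1, ← map_add, ← map_add, hv, map_zero]

theorem om_self {h : G} {v : V} (hv : v ∈ Om σ h) : σ h v ∈ Om σ h := om_of_comm rfl hv

theorem om_of_inv {g h : G} (hh : h * h * h = 1) (hgh : g * h = h * h * g) {v : V} (hv : v ∈ Om σ h) :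
    σ g v ∈ Om σ h := by
  rw [mem_Om] at hv ⊢
  have h1 : ∀ v, σ g (σ h v) = σ h (σ h (σ g v)) := fun v => by rw [← mul_apply', hgh, mul_apply', mul_apply']
  have h3 : ∀ v, σ h (σ h (σ h v)) = v := fun v => by rw [← mul_apply', ← mul_apply', hh, act_one]
  have h2 : σ h (σ g v) = σ g (σ h (σ h v)) := by rw [h1, h1, h3]
  rw [h2, ← h2, ← h1, h2, add_right_comm, ← map_add, ← map_add, hv, map_zero]

namespace R11

variable (r : R11 a b y x e s)
include r

theorem fx_e : finrank K (Fix σ e) = finrank K (Fix σ x) := by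
  rw [← fix_sq r.he, ← conj_eq r.htx, finrank_Fix_conj]

theorem fx_xe : finrank K (Fix σ (x * e)) = finrank K (Fix σ x) := by
  rw [← conj_eq r.hsx, finrank_Fix_conj]

theorem fx_xxe : finrank K (Fix σ (x * x * e)) = finrank K (Fix σ x) := by
  rw [← conj_eq r.hse, finrank_Fix_conj, r.fx_e]

/-- the basic dimensions -/
theorem basic (h2 : (2 : K) ≠ 0) (h3 : (3 : K) ≠ 0) : ∃ k,
    finrank K V = finrank K (Fix σ x ⊓ Fix σ e : Submodule K V) + 8 * k ∧
    finrank K (Fix σ x) = finrank K (Fix σ x ⊓ Fix σ e : Submodule K V) + 2 * k := by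
  have h1 := nine (σ := σ) h3 r.hx r.he r.hxe rfl r.fx_e r.fx_xe r.fx_xxe
  have h4 := split_fix (σ := σ) h3 r.he r.hxe.symm (y := x)
  have h5 := half_three (σ := σ) h2 h3 r.hzz r.hze r.he (Fix σ x ⊓ Om σ e)
    (fun v hv => ⟨fix_of_inv r.hx r.hzx hv.1, om_of_inv r.he r.hze hv.2⟩)
    (fun v hv => ⟨fix_le_of_comm r.hxe.symm hv.1, om_self hv.2⟩) (fun v hv => hv.2)
  exact ⟨finrank K ((Fix σ x ⊓ Om σ e) ⊓ Fix σ (s * s * (s * s)) : Submodule K V), by omega, by omega⟩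

theorem trivial_of_lt (h2 : (2 : K) ≠ 0) (h3 : (3 : K) ≠ 0) (h : finrank K V < 8) : σ x = 1 := by
  obtain ⟨k, h1, h4⟩ := r.basic (σ := σ) h2 h3
  have h5 : Fix σ x = ⊤ := by
    apply Submodule.eq_top_of_finrank_eq
    omega
  ext v
  have : v ∈ Fix σ x := by rw [h5]; trivial
  exact mem_Fix.1 this

/-- the dimensions in dimension `11` -/
theorem eleven (h2 : (2 : K) ≠ 0) (h3 : (3 : K) ≠ 0) (hV : finrank K V = 11) (hx : σ x ≠ 1) :
    finrank K (Fix σ x ⊓ Fix σ e : Submodule K V) = 3 ∧ finrank K (Fix σ x) = 5 := by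
  obtain ⟨k, h1, h4⟩ := r.basic (σ := σ) h2 h3
  have h5 : k ≠ 0 := by
    rintro rfl
    apply hx
    have h5 : Fix σ x = ⊤ := by
      apply Submodule.eq_top_of_finrank_eq
      omega
    ext v
    have : v ∈ Fix σ x := by rw [h5]; trivial
    exact mem_Fix.1 this
  omega

/-- `f = dim V^a ∈ {5, 7}`, `dim V^{a, x} = 3`. -/
theorem f_cases (h2 : (2 : K) ≠ 0) (h3 : (3 : K) ≠ 0) (hV : finrank K V = 11) (hx : σ x ≠ 1) :
    (finrank K (Fix σ a) = 5 ∨ finrank K (Fix σ a) = 7) ∧ finrank K (Fix σ a ⊓ Fix σ x : Submodule K V) = 3 := by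
  obtain ⟨w3, m5⟩ := r.eleven (σ := σ) h2 h3 hV hx
  have me := r.fx_e (σ := σ)
  set z := s * s * (s * s) with hz
  have hfz : finrank K (Fix σ a) = finrank K (Fix σ z) := finrank_Fix_of_isConj r.hca
  -- sizes of pieces
  have p0 := split_three (σ := σ) h3 r.hx (⊤ : Submodule K V) (fun _ _ => trivial)
  have p0' := split_three (σ := σ) h3 r.he (⊤ : Submodule K V) (fun _ _ => trivial)
  rw [top_inf_eq, top_inf_eq, finrank_top] at p0 p0'
  have p1 := split_fix (σ := σ) h3 r.he r.hxe.symm (y := x)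
  have p2 := split_fix (σ := σ) h3 r.hx r.hxe (y := e)
  have inv3 : ∀ {g h : G} (hh : h * h * h = 1) (hgh : g * h = h * h * g), ∀ v ∈ Fix σ g,
      v + σ h v + σ h (σ h v) ∈ Fix σ g := by
    intro g h hh hgh v hv
    rw [mem_Fix] at hv ⊢
    have h1 : ∀ v, σ g (σ h v) = σ h (σ h (σ g v)) := fun v => by
      rw [← mul_apply', hgh, mul_apply', mul_apply']
    have h3 : ∀ v, σ h (σ h (σ h v)) = v := fun v => by rw [← mul_apply', ← mul_apply', hh, act_one]
    rw [map_add, map_add, h1, h1, h1, hv, h3]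
    exact add_right_comm _ _ _
  -- `dim V^z`
  have z1 := split_three (σ := σ) h3 r.hx (Fix σ z) (inv3 r.hx r.hzx)
  have z2 := half_three (σ := σ) h2 h3 r.hzz r.hzx r.hx (Om σ x) (fun v hv => om_of_inv r.hx r.hzx hv)
    (fun v hv => om_self hv) (fun v hv => hv)
  have z3 := split_three (σ := σ) h3 r.he (Fix σ z ⊓ Fix σ x) (fun v hv => ⟨inv3 r.he r.hze v hv.1,
    Submodule.add_mem _ (Submodule.add_mem _ hv.2 (fix_le_of_comm r.hxe.symm hv.2))
      (fix_le_of_comm r.hxe.symm (fix_le_of_comm r.hxe.symm hv.2))⟩)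
  have z4 := half_three (σ := σ) h2 h3 r.hzz r.hze r.he (Fix σ x ⊓ Om σ e)
    (fun v hv => ⟨fix_of_inv r.hx r.hzx hv.1, om_of_inv r.he r.hze hv.2⟩)
    (fun v hv => ⟨fix_le_of_comm r.hxe.symm hv.1, om_self hv.2⟩) (fun v hv => hv.2)
  -- `dim V^a`
  have a1 := split_three (σ := σ) h3 r.he (Fix σ a) (inv3 r.he r.hae)
  have a2 := half_three (σ := σ) h2 h3 r.haa r.hae r.he (Om σ e) (fun v hv => om_of_inv r.he r.hae hv)
    (fun v hv => om_self hv) (fun v hv => hv)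
  have a3 := split_three (σ := σ) h3 r.hx (Fix σ a ⊓ Fix σ e) (fun v hv => by
    have j : ∀ v ∈ Fix σ a ⊓ Fix σ e, σ x v ∈ Fix σ a ⊓ Fix σ e := fun v hv =>
      ⟨fix_le_of_comm r.hax.symm hv.1, fix_le_of_comm r.hxe hv.2⟩
    exact Submodule.add_mem _ (Submodule.add_mem _ hv (j v hv)) (j _ (j v hv)))
  have a4 := half_three (σ := σ) h2 h3 r.hzz r.hzx r.hx (Fix σ a ⊓ Fix σ e ⊓ Om σ x)
    (fun v hv => ⟨⟨fix_le_of_comm r.haz.symm hv.1.1, fix_of_inv r.he r.hze hv.1.2⟩, om_of_inv r.hx r.hzx hv.2⟩)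
    (fun v hv => ⟨⟨fix_le_of_comm r.hax.symm hv.1.1, fix_le_of_comm r.hxe hv.1.2⟩, om_self hv.2⟩) (fun v hv => hv.2)
  have a5 : finrank K (Fix σ a ⊓ Fix σ e ⊓ Om σ x : Submodule K V) ≤ finrank K (Fix σ e ⊓ Om σ x : Submodule K V) :=
    Submodule.finrank_mono (inf_le_inf_right _ inf_le_right)
  -- `W = V^E`
  set W : Submodule K V := Fix σ x ⊓ Fix σ e with hW
  have wz : ∀ v ∈ W, σ z v ∈ W := fun v hv => ⟨fix_of_inv r.hx r.hzx hv.1, fix_of_inv r.he r.hze hv.2⟩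
  have wa : ∀ v ∈ W, σ a v ∈ W := fun v hv => ⟨fix_le_of_comm r.hax hv.1, fix_of_inv r.he r.hae hv.2⟩
  have wt : ∀ v ∈ W, σ (s * s) v ∈ W := by
    intro v hv
    constructor
    · change σ (s * s) v ∈ Fix σ x
      rw [mem_Fix, ← mul_apply', ← r.hte, mul_apply', mem_Fix.1 hv.2]
    · change σ (s * s) v ∈ Fix σ e
      rw [← fix_sq r.he, mem_Fix, ← mul_apply', ← r.htx, mul_apply', mem_Fix.1 hv.1]
  have w1 := split_two (σ := σ) h2 r.hzz W wz
  have w2 := half (σ := σ) h2 r.haa (W ⊓ An σ z)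
    (fun v hv => ⟨wa v hv.1, by
      change σ a v ∈ An σ z
      rw [mem_An, ← mul_apply', ← r.haz, mul_apply', mem_An.1 hv.2, map_neg]⟩)
    (σ (s * s)) (fun v hv => ⟨wt v hv.1, by
      change σ (s * s) v ∈ An σ z
      rw [mem_An, ← mul_apply', hz, mul_assoc (s * s) (s * s) (s * s), mul_apply', ← hz, mem_An.1 hv.2, map_neg]⟩)
    (fun v _ h0 => by
      have := injective (σ := σ) (s * s) (h0.trans (map_zero _).symm)
      exact this)
    (fun v hv => by
      have h1 : σ a v ∈ An σ z := by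
        rw [mem_An, ← mul_apply', ← r.haz, mul_apply', mem_An.1 hv.2, map_neg]
      have h4 : σ (s * s) (σ a v) ∈ An σ z := by
        rw [mem_An, ← mul_apply', hz, mul_assoc (s * s) (s * s) (s * s), mul_apply', ← hz, mem_An.1 h1, map_neg]
      have e4 := r.hat
      rw [← hz] at e4
      rw [← mul_apply', e4, mul_apply', mul_apply', mem_An.1 h4])
  -- `W^a`
  have w3' : finrank K (W ⊓ An σ z ⊓ Fix σ a : Submodule K V) ≤ finrank K (W ⊓ Fix σ a : Submodule K V) :=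
    Submodule.finrank_mono (inf_le_inf_right _ inf_le_left)
  have w4 : finrank K (W ⊓ Fix σ a : Submodule K V) ≤ finrank K W := Submodule.finrank_mono inf_le_left
  -- `V^{a,x}`
  have g1 := split_three (σ := σ) h3 r.he (Fix σ a ⊓ Fix σ x) (fun v hv => ⟨inv3 r.he r.hae v hv.1,
    Submodule.add_mem _ (Submodule.add_mem _ hv.2 (fix_le_of_comm r.hxe.symm hv.2))
      (fix_le_of_comm r.hxe.symm (fix_le_of_comm r.hxe.symm hv.2))⟩)
  have g2 := half_three (σ := σ) h2 h3 r.haa r.hae r.he (Fix σ x ⊓ Om σ e)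
    (fun v hv => ⟨fix_le_of_comm r.hax hv.1, om_of_inv r.he r.hae hv.2⟩)
    (fun v hv => ⟨fix_le_of_comm r.hxe.symm hv.1, om_self hv.2⟩) (fun v hv => hv.2)
  -- rename
  have c1 : (Fix σ z ⊓ Fix σ x ⊓ Fix σ e : Submodule K V) = W ⊓ Fix σ z := by
    rw [inf_assoc, inf_comm, hW]
  have c2 : (Fix σ z ⊓ Fix σ x ⊓ Om σ e : Submodule K V) = Fix σ x ⊓ Om σ e ⊓ Fix σ z := by
    rw [inf_assoc, inf_comm]
  have c3 : (Fix σ z ⊓ Om σ x : Submodule K V) = Om σ x ⊓ Fix σ z := inf_comm _ _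
  have c4 : (Fix σ a ⊓ Fix σ e ⊓ Fix σ x : Submodule K V) = W ⊓ Fix σ a := by
    rw [inf_assoc, inf_comm (Fix σ e) (Fix σ x), inf_comm, hW]
  have c5 : (Fix σ a ⊓ Om σ e : Submodule K V) = Om σ e ⊓ Fix σ a := inf_comm _ _
  have c6 : (Fix σ a ⊓ Fix σ x ⊓ Fix σ e : Submodule K V) = W ⊓ Fix σ a := by
    rw [inf_assoc, inf_comm, hW]
  have c7 : (Fix σ a ⊓ Fix σ x ⊓ Om σ e : Submodule K V) = Fix σ x ⊓ Om σ e ⊓ Fix σ a := by
    rw [inf_assoc, inf_comm]
  rw [← hz] at z2 z4 a4 w1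
  rw [c3] at z1
  rw [c1, c2] at z3
  rw [c5] at a1
  rw [c4] at a3
  rw [c6, c7] at g1
  have c8 : (Fix σ e ⊓ Fix σ x : Submodule K V) = W := by rw [inf_comm, hW]
  rw [c8] at p2
  omega

/-- **The fixed vector of `L₂(11)`.** -/
theorem exists_fixed (h2 : (2 : K) ≠ 0) (h3 : (3 : K) ≠ 0) (hV : finrank K V = 11) (hx : σ x ≠ 1) :
    ∃ v : V, v ≠ 0 ∧ σ a v = v ∧ σ b v = v ∧ σ y v = v ∧ σ x v = v := by
  obtain ⟨-, m5⟩ := r.eleven (σ := σ) h2 h3 hV hx
  obtain ⟨hf, g3⟩ := r.f_cases (σ := σ) h2 h3 hV hx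
  have hfb : finrank K (Fix σ b) = finrank K (Fix σ a) := by rw [← conj_eq r.hya, finrank_Fix_conj]
  have hfab : finrank K (Fix σ (a * b)) = finrank K (Fix σ a) := by rw [← conj_eq r.hyb, finrank_Fix_conj, hfb]
  have hfy : finrank K (Fix σ y) = 5 := by rw [← finrank_Fix_of_isConj r.hcx, m5]
  have k1 := klein (σ := σ) h2 r.haa r.hbb r.hab rfl hfb hfab
  have k2 := split_two (σ := σ) h2 r.hbb (Fix σ a) (fun v hv => fix_le_of_comm r.hab.symm hv)
  -- `D₁₂`
  have d1 := split_three (σ := σ) h3 r.hx (Fix σ a) (fun v hv =>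
    Submodule.add_mem _ (Submodule.add_mem _ hv (fix_le_of_comm r.hax.symm hv))
      (fix_le_of_comm r.hax.symm (fix_le_of_comm r.hax.symm hv)))
  have d2 := half_three (σ := σ) h2 h3 r.hbb r.hbx r.hx (Fix σ a ⊓ Om σ x)
    (fun v hv => ⟨fix_le_of_comm r.hab.symm hv.1, om_of_inv r.hx r.hbx hv.2⟩)
    (fun v hv => ⟨fix_le_of_comm r.hax.symm hv.1, om_self hv.2⟩) (fun v hv => hv.2)
  have d3 := split_three (σ := σ) h3 r.hx (Fix σ a ⊓ Fix σ b) (fun v hv => by
    refine ⟨Submodule.add_mem _ (Submodule.add_mem _ hv.1 (fix_le_of_comm r.hax.symm hv.1))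
      (fix_le_of_comm r.hax.symm (fix_le_of_comm r.hax.symm hv.1)), ?_⟩
    have hb := mem_Fix.1 hv.2
    change _ ∈ Fix σ b
    rw [mem_Fix]
    have h1 : ∀ v, σ b (σ x v) = σ x (σ x (σ b v)) := fun v => by
      rw [← mul_apply', r.hbx, mul_apply', mul_apply']
    have h3 : ∀ v, σ x (σ x (σ x v)) = v := fun v => by rw [← mul_apply', ← mul_apply', r.hx, act_one]
    rw [map_add, map_add, h1, h1, h1, hb, h3]
    exact add_right_comm _ _ _)
  have c1 : (Fix σ a ⊓ Fix σ b ⊓ Om σ x : Submodule K V) = Fix σ a ⊓ Om σ x ⊓ Fix σ b := inf_right_comm _ _ _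
  rw [c1] at d3
  -- `A₄`
  have hya' : ∀ v, σ y (σ a v) = σ b (σ y v) := fun v => by rw [← mul_apply', r.hya, mul_apply']
  have hyb' : ∀ v, σ y (σ b v) = σ a (σ b (σ y v)) := fun v => by
    rw [← mul_apply', r.hyb, mul_apply', mul_apply']
  have hab' : ∀ v, σ a (σ b v) = σ b (σ a v) := fun v => by rw [← mul_apply', r.hab, mul_apply']
  have haa' : ∀ v, σ a (σ a v) = v := fun v => by rw [← mul_apply', r.haa, act_one]
  have hbb' : ∀ v, σ b (σ b v) = v := fun v => by rw [← mul_apply', r.hbb, act_one]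
  let φ : Module.End K V := 1 + σ a - σ b - σ (a * b)
  have hφ : ∀ v, φ v = v + σ a v - σ b v - σ a (σ b v) := fun v => by
    change v + σ a v - σ b v - σ (a * b) v = _
    rw [mul_apply']
  have hφm : ∀ v ∈ Fix σ y, φ v ∈ (Fix σ a ⊓ An σ b : Submodule K V) := by
    intro v _
    rw [hφ]
    constructor
    · change _ ∈ Fix σ a
      rw [mem_Fix, map_sub, map_sub, map_add, haa', haa']
      abel
    · change _ ∈ An σ b
      rw [mem_An, map_sub, map_sub, map_add, hbb', ← hab', ← hab', hbb']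
      abel
  let ψ : Fix σ y →ₗ[K] (Fix σ a ⊓ An σ b : Submodule K V) := φ.restrict hφm
  have r1 := LinearMap.finrank_range_add_finrank_ker ψ
  have r2 : finrank K (LinearMap.range ψ) ≤ finrank K (Fix σ a ⊓ An σ b : Submodule K V) := Submodule.finrank_le _
  have r3 : finrank K (LinearMap.ker ψ) ≤ finrank K (Fix σ a ⊓ Fix σ b ⊓ Fix σ y : Submodule K V) := by
    let j : LinearMap.ker ψ →ₗ[K] V := (Fix σ y).subtype ∘ₗ (LinearMap.ker ψ).subtype
    have hj : ∀ v, j v ∈ (Fix σ a ⊓ Fix σ b ⊓ Fix σ y : Submodule K V) := by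
      rintro ⟨⟨v, hv⟩, h0⟩
      change v ∈ _
      have hv' := mem_Fix.1 hv
      have h0' : φ v = 0 := congrArg Subtype.val (LinearMap.mem_ker.1 h0)
      rw [hφ, hab' v] at h0'
      have h1 := congrArg (σ y) h0'
      rw [map_sub, map_sub, map_add, map_zero, hya' v, hyb' v, hyb' (σ a v), hya' v, hv', hab' v, hbb'] at h1
      have h4 := congrArg (σ y) h1
      rw [map_sub, map_sub, map_add, map_zero, hyb' v, hyb' (σ a v), hya' v, hv', hab' v, hbb'] at h4
      have e1 : (2 : K) • (σ a v - σ b v) = 0 := by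
        linear_combination (norm := module) h0' - h1
      have e2 : (2 : K) • (v - σ b v) = 0 := by
        linear_combination (norm := module) h0' + h4
      have e3 := sub_eq_zero.1 ((smul_eq_zero.1 e1).resolve_left h2)
      have e4 := sub_eq_zero.1 ((smul_eq_zero.1 e2).resolve_left h2)
      exact ⟨⟨mem_Fix.2 (e3.trans e4.symm), mem_Fix.2 e4.symm⟩, hv⟩
    refine LinearMap.finrank_le_finrank_of_injective (f := j.codRestrict _ hj) ?_
    intro u v huv
    have h : j u = j v := by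
      have h1 : ((j.codRestrict _ hj u : (Fix σ a ⊓ Fix σ b ⊓ Fix σ y : Submodule K V)) : V) =
          (j.codRestrict _ hj v : (Fix σ a ⊓ Fix σ b ⊓ Fix σ y : Submodule K V)) := by rw [huv]
      exact h1
    exact Subtype.ext (Subtype.ext h)
  -- conclusion
  have q1 := Submodule.finrank_sup_add_finrank_inf_eq (Fix σ a ⊓ Fix σ b ⊓ Fix σ y) (Fix σ a ⊓ Fix σ b ⊓ Fix σ x)
  have q2 : finrank K ((Fix σ a ⊓ Fix σ b ⊓ Fix σ y) ⊔ (Fix σ a ⊓ Fix σ b ⊓ Fix σ x) : Submodule K V) ≤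
      finrank K (Fix σ a ⊓ Fix σ b : Submodule K V) := Submodule.finrank_mono (sup_le inf_le_left inf_le_left)
  obtain ⟨v, ⟨⟨⟨hva, hvb⟩, hvy⟩, -, hvx⟩, hv0⟩ := exists_fix_of_pos
    (U := (Fix σ a ⊓ Fix σ b ⊓ Fix σ y) ⊓ (Fix σ a ⊓ Fix σ b ⊓ Fix σ x)) (by omega)
  exact ⟨v, hv0, mem_Fix.1 hva, mem_Fix.1 hvb, mem_Fix.1 hvy, mem_Fix.1 hvx⟩

end R11

end Cfsg.Agent.H882.Dim
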