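import Cfsg.Agent.H882.Del.Basic
import Cfsg.Agent.H882.Ten.Form

/-!
# Deleted permutation modules with an invariant quadratic form

`Gr Q v a` : `polar Q (v i) (v j) = a` for `i ≠ j`.
-/

set_option autoImplicit false
set_option linter.unusedSectionVars false

namespace Cfsg.Agent.H882.Del

open QuadraticMap hiding proj
open Cfsg.Agent.LieClassical.OrthCore Cfsg.Agent.LieClassical.OrthTrans Cfsg.Agent.LieClassical.OrthFinite
open Cfsg.Agent.H882.Ten
open scoped commutatorElement

variable {F : Type*} [Field F] {V : Type*} [AddCommGroup V] [Module F V]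
variable {ι : Type*} [Fintype ι] [DecidableEq ι] {v : ι → V} {Q : QuadraticForm F V} {a : F}

/-- Equality of two linear combinations. -/
theorem Sys.eq_of_comb (S : Sys F v) {c d : ι → F} (h : ∑ i, c i • v i = ∑ i, d i • v i) {k : ι} (hk : c k = d k) :
    c = d := by
  have h1 : ∑ i, (c i - d i) • v i = 0 := by
    simp only [sub_smul, Finset.sum_sub_distrib, h, sub_self]
  funext i
  have h2 := S.rel h1 i k
  rw [hk, sub_self] at h2
  exact sub_eq_zero.1 h2

theorem sum_single (c : F) (i : ι) : ∑ j, (Pi.single i c : ι → F) j • v j = c • v i := by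
  rw [Finset.sum_eq_single i]
  · rw [Pi.single_eq_same]
  · intro j _ hj; rw [Pi.single_eq_of_ne hj, zero_smul]
  · intro h; exact absurd (Finset.mem_univ i) h

/-- `c v_i = d v_j` -/
theorem Sys.eq_of_smul (S : Sys F v) (h3 : 3 ≤ Fintype.card ι) {i j : ι} {c d : F} (h : c • v i = d • v j) :
    c = d ∧ (c ≠ 0 → i = j) := by
  obtain ⟨k, hki, hkj⟩ : ∃ k : ι, k ≠ i ∧ k ≠ j := by
    by_contra hcon
    push Not at hcon
    have hsub : (Finset.univ : Finset ι) ⊆ {i, j} := by
      intro k _
      by_cases hk : k = i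
      · simp [hk]
      · simp [hcon k hk]
    have := Finset.card_le_card hsub
    rw [Finset.card_univ] at this
    have h5 := Finset.card_le_two (a := i) (b := j)
    omega
  have h1 := S.eq_of_comb (c := Pi.single i c) (d := Pi.single j d) (by rw [sum_single, sum_single, h]) (k := k)
    (by rw [Pi.single_eq_of_ne hki, Pi.single_eq_of_ne hkj])
  by_cases hij : i = j
  · subst hij
    have := congrFun h1 i
    rw [Pi.single_eq_same, Pi.single_eq_same] at this
    exact ⟨this, fun _ => rfl⟩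
  · have h2 := congrFun h1 i
    have h4 := congrFun h1 j
    rw [Pi.single_eq_same, Pi.single_eq_of_ne hij] at h2
    rw [Pi.single_eq_same, Pi.single_eq_of_ne (Ne.symm hij)] at h4
    exact ⟨by rw [h2, ← h4], fun h => absurd h2 h⟩

/-- The inner products `(v i, v j)`, `i ≠ j`, are equal. -/
def Gr (Q : QuadraticForm F V) (v : ι → V) (a : F) : Prop := ∀ i j, i ≠ j → polar Q (v i) (v j) = a

section

variable (S : Sys F v) (hg : Gr Q v a)

include S hg

theorem gr_self (i : ι) : polar Q (v i) (v i) = -(((Fintype.card ι : F) - 1) * a) := by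
  have h1 : ∑ j, polar Q (v i) (v j) = 0 := by
    have h2 : ∀ s : Finset ι, polar Q (v i) (∑ j ∈ s, v j) = ∑ j ∈ s, polar Q (v i) (v j) := by
      intro s
      induction s using Finset.induction_on with
      | empty => simp [QuadraticMap.polar_zero_right]
      | insert b s hb ih => rw [Finset.sum_insert hb, Finset.sum_insert hb, QuadraticMap.polar_add_right, ih]
    rw [← h2, S.sum, QuadraticMap.polar_zero_right]
  rw [← Finset.add_sum_erase _ _ (Finset.mem_univ i)] at h1
  rw [Finset.sum_congr rfl (g := fun _ => a) (fun j hj => hg i j (Finset.ne_of_mem_erase hj).symm), Finset.sum_const,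
    Finset.card_erase_of_mem (Finset.mem_univ i), Finset.card_univ, nsmul_eq_mul] at h1
  have hpos : 1 ≤ Fintype.card ι := by rw [S.card]; omega
  rw [Nat.cast_sub hpos, Nat.cast_one] at h1
  linear_combination h1

theorem polar_map_eq {g : V ≃ₗ[F] V} (h : ∀ i j, polar Q (g (v i)) (g (v j)) = polar Q (v i) (v j)) (x y : V) :
    polar Q (g x) (g y) = polar Q x y := by
  have h1 : ∀ i, ∀ y, polar Q (g (v i)) (g y) = polar Q (v i) y := by
    intro i y
    have h2 : (polarBilin Q (g (v i))) ∘ₗ (g : V →ₗ[F] V) = polarBilin Q (v i) := S.ext fun j => h i j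
    exact LinearMap.congr_fun h2 y
  have h3 : ((polarBilin Q).flip (g y)) ∘ₗ (g : V →ₗ[F] V) = (polarBilin Q).flip y := S.ext fun i => h1 i y
  exact LinearMap.congr_fun h3 x

theorem mem_O_of_gr (h2 : (2 : F) ≠ 0) {g : V ≃ₗ[F] V} {σ : Equiv.Perm ι} {ε : F} (hε : ε = 1 ∨ ε = -1)
    (h : ∀ i, g (v i) = ε • v (σ i)) : g ∈ O Q := by
  refine mem_O_of_polar h2 (polar_map_eq S hg fun i j => ?_)
  have hεε : ε * ε = 1 := by rcases hε with rfl | rfl <;> simp
  rw [h, h, QuadraticMap.polar_smul_left, QuadraticMap.polar_smul_right, smul_eq_mul, smul_eq_mul, ← mul_assoc, hεε,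
    one_mul]
  by_cases hij : i = j
  · subst hij; rw [gr_self S hg, gr_self S hg]
  · rw [hg i j hij, hg _ _ (fun h => hij (σ.injective h))]

theorem SG_le_O (h2 : (2 : F) ≠ 0) : SG F v ≤ O Q := by
  rintro g ⟨σ, ε, hε, h⟩
  exact mem_O_of_gr S hg h2 hε h

theorem perm_mem_O (h2 : (2 : F) ≠ 0) (σ : Equiv.Perm ι) : S.perm σ ∈ O Q :=
  mem_O_of_gr S hg h2 (Or.inl rfl) (fun i => by rw [S.perm_apply, one_smul])

omit hg in
theorem perm_mem_SG (σ : Equiv.Perm ι) : S.perm σ ∈ SG F v :=
  ⟨σ, 1, Or.inl rfl, fun i => by rw [S.perm_apply, one_smul]⟩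

theorem a_ne (hQ : Nondeg Q) : a ≠ 0 := by
  rintro rfl
  obtain ⟨i, j, hij⟩ := S.exists_two
  refine S.ne_zero i (hQ _ fun y => ?_)
  have h1 : polarBilin Q (v i) = 0 := S.ext fun j => by
    change polar Q (v i) (v j) = 0
    by_cases h : i = j
    · subst h; rw [gr_self S hg, mul_zero, neg_zero]
    · exact hg i j h
  exact LinearMap.congr_fun h1 y

theorem card_ne (hQ : Nondeg Q) (h3 : 3 ≤ Fintype.card ι) : (Fintype.card ι : F) ≠ 0 := by
  intro h0
  obtain ⟨i, j, hij⟩ := S.exists_two
  apply hij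
  apply S.injective h3
  rw [← sub_eq_zero]
  refine hQ _ fun y => ?_
  have h1 : polarBilin Q (v i - v j) = 0 := S.ext fun k => by
    change polar Q (v i - v j) (v k) = 0
    have h2 : ∀ i, polar Q (v i) (v k) = a := by
      intro i
      by_cases h : i = k
      · subst h; rw [gr_self S hg, h0]; ring
      · exact hg i k h
    rw [QuadraticMap.polar_sub_left, h2, h2, sub_self]
  exact LinearMap.congr_fun h1 y

end

section alt

variable (S : Sys F v)

/-- The image of the alternating group. -/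
noncomputable def altG (S : Sys F v) : Subgroup (V ≃ₗ[F] V) := (alternatingGroup ι).map S.perm

theorem altG_le_SG : altG S ≤ SG F v := by
  rintro _ ⟨σ, -, rfl⟩
  exact perm_mem_SG S σ


/-- `SG` modulo `± 1` is the symmetric group. -/
theorem commutator_SG_le : ⁅SG F v, SG F v⁆ ≤ altG S := by
  rw [Subgroup.commutator_le]
  rintro g ⟨σ, ε, hε, h⟩ g' ⟨τ, δ, hδ, h'⟩
  refine ⟨⁅σ, τ⁆, ?_, ?_⟩
  · change ⁅σ, τ⁆ ∈ alternatingGroup ι
    rw [Equiv.Perm.mem_alternatingGroup, commutatorElement_def, map_mul, map_mul, map_mul, map_inv, map_inv]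
    rcases Int.units_eq_one_or (Equiv.Perm.sign σ) with h1 | h1 <;>
      rcases Int.units_eq_one_or (Equiv.Perm.sign τ) with h2 | h2 <;> rw [h1, h2] <;> decide
  · have hεε : ε * ε = 1 := by rcases hε with rfl | rfl <;> simp
    have hδδ : δ * δ = 1 := by rcases hδ with rfl | rfl <;> simp
    have hi : ∀ (g : V ≃ₗ[F] V) (σ : Equiv.Perm ι) (ε : F), ε * ε = 1 → (∀ i, g (v i) = ε • v (σ i)) →
        ∀ i, g⁻¹ (v i) = ε • v (σ⁻¹ i) := by
      intro g σ ε hε h i
      apply g.injective
      have h2 : g (g⁻¹ (v i)) = v i := LinearEquiv.apply_symm_apply g (v i)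
      rw [h2, map_smul, h, smul_smul, hε, one_smul]
      exact congrArg v (σ.apply_symm_apply i).symm
    refine S.ext' fun i => ?_
    change S.perm ⁅σ, τ⁆ (v i) = ⁅g, g'⁆ (v i)
    rw [S.perm_apply, commutatorElement_def]
    change _ = g (g' (g⁻¹ (g'⁻¹ (v i))))
    simp only [hi g' τ δ hδδ h', map_smul, hi g σ ε hεε h, h', h, smul_smul]
    have e1 : δ * (ε * (δ * ε)) = 1 := by linear_combination (ε * ε) * hδδ + hεε
    have e2 : δ * ε * δ * ε = 1 := by linear_combination (ε * ε) * hδδ + hεε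
    first
      | rw [e1, one_smul]; rfl
      | rw [e2, one_smul]; rfl

variable (hg : Gr Q v a)

include hg

theorem altG_le_E (h2 : (2 : F) ≠ 0) (hG : Good Q) (h5 : 5 ≤ Fintype.card ι) : altG S ≤ E Q := by
  have hc : 5 ≤ Nat.card ι := by rwa [Nat.card_eq_fintype_card]
  rw [← hG.commutator_eq_E]
  unfold altG
  rw [← alternatingGroup.commutator_perm_eq hc, commutator_def, Subgroup.map_commutator]
  have h1 : (⊤ : Subgroup (Equiv.Perm ι)).map S.perm ≤ O Q := by
    rintro _ ⟨σ, -, rfl⟩
    exact perm_mem_O S hg h2 σ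
  exact Subgroup.commutator_mono h1 h1

end alt

end Cfsg.Agent.H882.Del
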