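import Cfsg.Agent.H882.Del.Basic

/-!
# The trace on a deleted permutation module (helper882)
-/

set_option autoImplicit false
set_option linter.unusedSectionVars false

namespace Cfsg.Agent.H882.Del

variable {F : Type*} [Field F] {V : Type*} [AddCommGroup V] [Module F V]
variable {ι : Type*} [Fintype ι] [DecidableEq ι] {v : ι → V}

theorem Sys.trace (S : Sys F v) {f : V →ₗ[F] V} {π : Equiv.Perm ι} (h : ∀ i, f (v i) = v (π i)) :
    LinearMap.trace F V f = ((Finset.univ.filter fun i => π i = i).card : F) - 1 := by
  classical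
  have hfin : Module.Finite F V := Module.finite_of_finrank_pos S.pos
  obtain ⟨i0, -⟩ := S.exists_two
  have hex : ∀ i, ∃ ψ : V →ₗ[F] F, ∀ j, ψ (v j) = (if j = i then 1 else 0) - (if j = i0 then 1 else 0) := by
    intro i
    apply S.exists_map
    rw [Finset.sum_sub_distrib, Finset.sum_ite_eq', Finset.sum_ite_eq']
    simp
  choose ψ hψ using hex
  have h1 : f = ∑ i, (ψ i).smulRight (v (π i)) := by
    apply S.ext
    intro j
    rw [LinearMap.sum_apply]
    simp only [LinearMap.smulRight_apply, hψ, sub_smul, Finset.sum_sub_distrib]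
    have e1 : ∑ i, (if j = i then (1 : F) else 0) • v (π i) = v (π j) := by
      rw [Finset.sum_eq_single j]
      · simp
      · intro i _ hi
        rw [if_neg (Ne.symm hi), zero_smul]
      · simp
    have e2 : ∑ i, (if j = i0 then (1 : F) else 0) • v (π i) = 0 := by
      rw [← Finset.smul_sum]
      have : ∑ i, v (π i) = 0 := by
        rw [← Finset.sum_congr rfl fun i _ => h i, ← map_sum, S.sum, map_zero]
      rw [this, smul_zero]
    rw [e1, e2, sub_zero, h]
  conv_lhs => rw [h1]
  rw [map_sum]
  simp only [LinearMap.trace_smulRight, hψ, Finset.sum_sub_distrib]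
  rw [Finset.sum_boole]
  congr 1
  have h2 : ∑ i, (if π i = i0 then (1 : F) else 0) = 1 := by
    rw [Equiv.sum_comp π (fun i => if i = i0 then (1 : F) else 0), Finset.sum_ite_eq']
    simp
  exact h2

end Cfsg.Agent.H882.Del
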