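import Cfsg.Agent.H882.Del.M11Grp
import Cfsg.Agent.H882.Del.Tr

/-!
# Representations of `M₁₁` of dimension `11`, characteristic `≠ 2, 3` (helper882)

`L₂(11)` fixes a vector `v0 ≠ 0`; if `M₁₁` does not fix `v0` then the representation is the deleted permutation module on the
12 points.
-/

set_option autoImplicit false
set_option linter.unusedSectionVars false

namespace Cfsg.Agent.H882.M11V

open Cfsg Module Cfsg.Agent.SporadicA.GolayBase Cfsg.Agent.SporadicA.GolayPerm Cfsg.Agent.H882.Tab
open Cfsg.Agent.H882.Grp Cfsg.Agent.H882.Dim Cfsg.Agent.H882.Del Cfsg.Agent.H637.JW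

variable {K : Type*} [Field K] {V : Type*} [AddCommGroup V] [Module K V] [FiniteDimensional K V]

/-- Restriction to an invariant subspace. -/
def res {G : Type*} [Group G] (σ : G →* Module.End K V) (W : Submodule K V) (hW : ∀ g, ∀ w ∈ W, σ g w ∈ W) :
    G →* Module.End K W where
  toFun g := (σ g).restrict (hW g)
  map_one' := by
    ext w
    change σ 1 (w : V) = w
    rw [map_one]; rfl
  map_mul' g h := by
    ext w
    change σ (g * h) (w : V) = σ g (σ h w)
    rw [map_mul]; rfl

/-- The kernel of a representation is trivial or everything. -/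
theorem eq_one_of_eq_one {G : Type*} [Group G] [IsSimpleGroup G] {σ : G →* Module.End K V} {x : G} (hx : x ≠ 1)
    (h : σ x = 1) (g : G) : σ g = 1 := by
  rcases (inferInstance : σ.ker.Normal).eq_bot_or_eq_top with h1 | h1
  · exfalso
    have : x ∈ σ.ker := h
    rw [h1] at this
    exact hx this
  · have : g ∈ σ.ker := by rw [h1]; trivial
    exact this

theorem X_ne_one : X ≠ 1 := by
  intro h
  have := order_X
  rw [h, orderOf_one] at this
  norm_num at this

/-- Representations of dimension less than `8` are trivial. -/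
theorem triv_of_lt (h2 : (2 : K) ≠ 0) (h3 : (3 : K) ≠ 0) {σ : Spor.M11 →* Module.End K V} (h : finrank K V < 8)
    (g : Spor.M11) : σ g = 1 := by
  have := simple11
  exact eq_one_of_eq_one X_ne_one (rel.trivial_of_lt h2 h3 h) g

section main

variable {σ : Spor.M11 →* Module.End K V} {v0 : V}

/-- The images of `v0`. -/
noncomputable def ob (σ : Spor.M11 →* Module.End K V) (v0 : V) (p : Pt) : V := σ (ePt.symm p).out v0

theorem ob_mk (hfix : ∀ k ∈ L0, σ k v0 = v0) (g : Spor.M11) : ob σ v0 (ePt (g : Spor.M11 ⧸ L0)) = σ g v0 := by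
  obtain ⟨k, hk⟩ := QuotientGroup.mk_out_eq_mul L0 g
  unfold ob
  rw [Equiv.symm_apply_apply, hk, mul_apply', hfix k k.2]

/-- The action on the points. -/
def act (g : Spor.M11) : Equiv.Perm Pt where
  toFun p := ⟨(g : Equiv.Perm GolayPt) p, (apply_mem g).2 p.2⟩
  invFun p := ⟨((g⁻¹ : Spor.M11) : Equiv.Perm GolayPt) p, (apply_mem g⁻¹).2 p.2⟩
  left_inv p := Subtype.ext ((g : Equiv.Perm GolayPt).symm_apply_apply p)
  right_inv p := Subtype.ext ((g : Equiv.Perm GolayPt).apply_symm_apply p)

theorem ob_smul (hfix : ∀ k ∈ L0, σ k v0 = v0) (g : Spor.M11) (p : Pt) : σ g (ob σ v0 p) = ob σ v0 (act g p) := by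
  obtain ⟨i, rfl⟩ := ePt.surjective p
  induction i using QuotientGroup.induction_on with
  | H h =>
    rw [ob_mk hfix, ← mul_apply', ← ob_mk hfix (g * h)]
    rfl

theorem trans_act (p q : Pt) : ∃ g, act g p = q := by
  obtain ⟨i, rfl⟩ := ePt.surjective p
  obtain ⟨j, rfl⟩ := ePt.surjective q
  induction i using QuotientGroup.induction_on with
  | H g =>
    induction j using QuotientGroup.induction_on with
    | H h =>
      refine ⟨h * g⁻¹, Subtype.ext ?_⟩
      change (h : Equiv.Perm GolayPt) ((g : Equiv.Perm GolayPt)⁻¹ ((g : Equiv.Perm GolayPt) none)) =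
        (h : Equiv.Perm GolayPt) none
      rw [show (g : Equiv.Perm GolayPt)⁻¹ ((g : Equiv.Perm GolayPt) none) = none from
        (g : Equiv.Perm GolayPt).symm_apply_apply none]

theorem act_mul (g h : Spor.M11) (p : Pt) : act (g * h) p = act g (act h p) := rfl

theorem act_one' (p : Pt) : act 1 p = p := rfl

/-- The permutation representation. -/
def pr (K : Type*) [Field K] : Spor.M11 →* Module.End K (Pt → K) where
  toFun g := LinearMap.funLeft K K (act g⁻¹)
  map_one' := by
    refine LinearMap.ext fun f => funext fun p => ?_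
    rw [inv_one]
    rfl
  map_mul' g h := by
    refine LinearMap.ext fun f => funext fun p => ?_
    rw [mul_inv_rev]
    rfl

theorem pr_apply (g : Spor.M11) (f : Pt → K) (p : Pt) : pr K g f p = f (act g⁻¹ p) := rfl

/-- **Dichotomy** : `M₁₁` fixes `v0` or `V` is the deleted permutation module. -/
theorem sys (h2 : (2 : K) ≠ 0) (h3 : (3 : K) ≠ 0) (hV : finrank K V = 11) (hfix : ∀ k ∈ L0, σ k v0 = v0)
    (hne : ∃ g, σ g v0 ≠ v0) : Sys K (ob σ v0) := by
  classical
  let Φ : (Pt → K) →ₗ[K] V := Fintype.linearCombination K (ob σ v0)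
  have hΦ : ∀ c, Φ c = ∑ p, c p • ob σ v0 p := fun c => rfl
  have heq : ∀ g c, Φ (pr K g c) = σ g (Φ c) := by
    intro g c
    rw [hΦ, hΦ, map_sum, ← Equiv.sum_comp (act g)]
    refine Finset.sum_congr rfl fun p _ => ?_
    rw [map_smul, ob_smul hfix, pr_apply, ← act_mul, inv_mul_cancel, act_one']
  have hv0 : v0 ∈ LinearMap.range Φ := by
    refine ⟨Pi.single (ePt ((1 : Spor.M11) : Spor.M11 ⧸ L0)) 1, ?_⟩
    rw [hΦ, Finset.sum_eq_single (ePt ((1 : Spor.M11) : Spor.M11 ⧸ L0)), Pi.single_eq_same, one_smul, ob_mk hfix,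
      act_one]
    · intro p _ hp
      rw [Pi.single_eq_of_ne hp, zero_smul]
    · intro h; exact absurd (Finset.mem_univ _) h
  have hWinv : ∀ g, ∀ w ∈ LinearMap.range Φ, σ g w ∈ LinearMap.range Φ := by
    rintro g _ ⟨c, rfl⟩
    exact ⟨pr K g c, heq g c⟩
  have hRinv : ∀ g, ∀ c ∈ LinearMap.ker Φ, pr K g c ∈ LinearMap.ker Φ := by
    intro g c hc
    rw [LinearMap.mem_ker] at hc ⊢
    rw [heq, hc, map_zero]
  have hW8 : 8 ≤ finrank K (LinearMap.range Φ) := by
    by_contra hlt
    push Not at hlt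
    obtain ⟨g, hg⟩ := hne
    apply hg
    have h1 := triv_of_lt h2 h3 (σ := res σ (LinearMap.range Φ) hWinv) hlt g
    have h4 := congrArg (fun f : Module.End K (LinearMap.range Φ) => ((f ⟨v0, hv0⟩ : LinearMap.range Φ) : V)) h1
    exact h4
  have hcard : Fintype.card Pt = 12 := by rw [← Nat.card_eq_fintype_card]; exact card_Pt
  have hrn := LinearMap.finrank_range_add_finrank_ker Φ
  rw [Module.finrank_fintype_fun_eq_card, hcard] at hrn
  have hRc : ∀ c ∈ LinearMap.ker Φ, ∀ p q, c p = c q := by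
    intro c hc p q
    obtain ⟨g, hg⟩ := trans_act p q
    have h1 := triv_of_lt h2 h3 (σ := res (pr K) (LinearMap.ker Φ) hRinv) (by omega) g⁻¹
    have h4 := congrArg (fun f : Module.End K (LinearMap.ker Φ) => ((f ⟨c, hc⟩ : LinearMap.ker Φ) : Pt → K) p) h1
    have h5 : c (act g⁻¹⁻¹ p) = c p := h4
    rw [inv_inv, hg] at h5
    exact h5.symm
  have hR1 : finrank K (LinearMap.ker Φ) ≤ 1 := by
    have hle : LinearMap.ker Φ ≤ Submodule.span K {fun _ => (1 : K)} := by
      intro c hc
      obtain ⟨p⟩ : Nonempty Pt := Fintype.card_pos_iff.1 (by rw [hcard]; norm_num)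
      refine Submodule.mem_span_singleton.2 ⟨c p, funext fun q => ?_⟩
      rw [Pi.smul_apply, smul_eq_mul, mul_one]
      exact hRc c hc p q
    exact (Submodule.finrank_mono hle).trans ((finrank_span_le_card _).trans (by simp))
  have hle := Submodule.finrank_le (LinearMap.range Φ)
  have htop : LinearMap.range Φ = ⊤ := by
    apply Submodule.eq_top_of_finrank_eq
    omega
  refine ⟨?_, by rw [hcard, hV], by omega, ?_⟩
  · rw [← htop]
    exact (Fintype.range_linearCombination K (ob σ v0)).symm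
  · have hpos : 0 < finrank K (LinearMap.ker Φ) := by
      rw [htop, finrank_top] at hrn
      omega
    obtain ⟨c, hc, hc0⟩ := exists_fix_of_pos hpos
    obtain ⟨p, hp⟩ : ∃ p, c p ≠ 0 := by
      by_contra hcon
      push Not at hcon
      exact hc0 (funext hcon)
    have h1 := LinearMap.mem_ker.1 hc
    rw [hΦ, Finset.sum_congr rfl fun q _ => by rw [hRc c hc q p], ← Finset.smul_sum] at h1
    exact (smul_eq_zero.1 h1).resolve_left hp

/-- The trace in the second case. -/
theorem trace_eq (h2 : (2 : K) ≠ 0) (h3 : (3 : K) ≠ 0) (hV : finrank K V = 11) (hfix : ∀ k ∈ L0, σ k v0 = v0)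
    (hne : ∃ g, σ g v0 ≠ v0) (g : Spor.M11) {P k : ℕ} (hg : IsT g P)
    (hk : (Finset.univ.filter fun i : Pt => papp P (idx i) = idx i).card = k) :
    LinearMap.trace K V (σ g) = (k : K) - 1 := by
  classical
  rw [(sys h2 h3 hV hfix hne).trace (π := act g) fun p => ob_smul hfix g p, ← hk]
  congr 3
  ext p
  rw [Finset.mem_filter, Finset.mem_filter, ← hg]
  refine and_congr_right fun _ => ⟨fun h => ?_, fun h => Subtype.ext (idx_injective h)⟩
  exact congrArg (fun q : Pt => idx q) h

end main

end Cfsg.Agent.H882.M11V
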