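import Cfsg.Agent.H882.Del.Prime
import Cfsg.Agent.H882.Del.M12V
import Cfsg.Agent.H879.TL.Adapt

/-!
# `M₁₁` and `M₁₂` in `Ω₁₁(q)` are not maximal, characteristic `≠ 2, 3` (helper882)

They are contained in `A₁₂`.
-/

set_option autoImplicit false
set_option linter.unusedSectionVars false

namespace Cfsg.Agent.H882.Del

open QuadraticMap hiding proj
open Cfsg.Agent.LieClassical.OrthCore Cfsg.Agent.LieClassical.OrthTrans Cfsg.Agent.LieClassical.OrthFinite
open Cfsg Cfsg.Geo Matrix Module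
open Cfsg.Agent.H915.LD

universe u

variable {ι : Type} [Fintype ι] [DecidableEq ι] {F : Type u} [Field F] [Finite F]

theorem fixQ_of_le {Q : QuadraticForm F (ι → F)} (hQ : Nondeg Q) {P : Subgroup (GL ι F)}
    (hP : P ≤ omegaGL (Q : (ι → F) → F)) : FixQ P := by
  refine ⟨Q, H883.Bridge.isNondegenerateQuadraticForm hQ, ?_⟩
  rintro _ ⟨g, hg, rfl⟩ v
  obtain ⟨x, -, hx⟩ := hP hg
  have := x.2 v v
  rw [← hx]
  exact this

/-- `P` as a representation of `G`. -/
noncomputable def repOf {P : Subgroup (GL ι F)} {G : Type*} [Group G] (e : P ≃* G) : G →* Module.End F (ι → F) :=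
  ((Matrix.toLinAlgEquiv' (R := F) (n := ι)).toAlgHom.toRingHom.toMonoidHom).comp
    ((Units.coeHom (Matrix ι ι F)).comp (P.subtype.comp e.symm.toMonoidHom))

theorem repOf_apply {P : Subgroup (GL ι F)} {G : Type*} [Group G] (e : P ≃* G) (g : G) (v : ι → F) :
    repOf e g v = ((e.symm g : P) : GL ι F).1 *ᵥ v := rfl

theorem repOf_ne_one {P : Subgroup (GL ι F)} {G : Type*} [Group G] (e : P ≃* G) {g : G} (hg : g ≠ 1) :
    repOf e g ≠ 1 := by
  intro h
  apply hg
  have h1 : e.symm g = 1 := by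
    apply Subtype.ext
    apply Units.ext
    have h2 : ∀ v, ((e.symm g : P) : GL ι F).1 *ᵥ v = v := by
      intro v
      rw [← repOf_apply, h]; rfl
    ext i j
    have h3 := congrFun (h2 (Pi.single j 1)) i
    rw [Matrix.mulVec_single_one, Matrix.col_apply, Pi.single_apply] at h3
    change ((e.symm g : P) : GL ι F).1 i j = (1 : Matrix ι ι F) i j
    rw [h3, Matrix.one_apply]
  rw [← e.apply_symm_apply g, h1, map_one]

/-- Simple groups with a subgroup of index `12` fixing a vector. -/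
theorem kill_of_index (h2 : (2 : F) ≠ 0) {Q : QuadraticForm F (ι → F)} (hQ : Nondeg Q) (hn : Fintype.card ι = 11)
    {H P : Subgroup (GL ι F)} (hH : IsMaximalIn (omegaGL (Q : (ι → F) → F)) H) (hPc : IsResidualCore H P)
    {G : Type*} [Group G] [Finite G] (hG : IsSimpleGroup G) (e : P ≃* G) {L : Subgroup G} (hL : L.index ∣ 12)
    {x : G} (hx : x ∈ L) (hx11 : orderOf x = 11) (h121 : ¬ 121 ∣ Nat.card G)
    (hcard : Nat.card G ≠ 239500800) {v0 : ι → F} (h0 : v0 ≠ 0) (hfix : ∀ l ∈ L, repOf e l v0 = v0) : False := by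
  have hC : Core P := core_of_residual hPc
  have hPs : IsSimpleGroup P := e.isSimpleGroup_congr.2 hG
  -- the stabiliser
  let K0 : Subgroup P := (H637.JW.stab (repOf e) v0).comap e.toMonoidHom
  have hK0 : ∀ g : P, g ∈ K0 ↔ ((g : GL ι F) : Matrix ι ι F) *ᵥ v0 = v0 := by
    intro g
    change repOf e (e g) v0 = v0 ↔ _
    rw [repOf_apply, e.symm_apply_apply]
  have hidx : K0.index = (H637.JW.stab (repOf e) v0).index :=
    Subgroup.index_comap_of_surjective _ e.surjective
  have hd : K0.index ∣ 12 := by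
    rw [hidx]
    exact (Subgroup.index_dvd_of_le (fun l hl => hfix l hl)).trans hL
  have h11 : 11 ∣ Nat.card P := by
    rw [Nat.card_congr e.toEquiv, ← hx11]
    exact orderOf_dvd_natCard x
  have hne : K0 ≠ ⊤ := by
    intro ht
    refine H879.TL.no_fixed_vector hC h0 fun g hg => ?_
    have : (⟨g, hg⟩ : P) ∈ K0 := by rw [ht]; trivial
    exact (hK0 _).1 this
  have hK12 := Grp.index_twelve h11 hd hne
  have hxK : e.symm x ∈ K0 := by
    change repOf e (e (e.symm x)) v0 = v0
    rw [e.apply_symm_apply]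
    exact hfix x hx
  have hord : orderOf (e.symm x) = 11 := by rw [← hx11]; exact MulEquiv.orderOf_eq e.symm x
  obtain ⟨⟨f⟩, -, -⟩ := mat_prime h2 hQ (by omega) hH hPc (K := K0) (by rw [hK12, hn]) h0 (fun k hk => (hK0 k).1 hk)
    (by rw [hn]; norm_num) hxK (by rw [hn, ← hord]; exact pow_orderOf_eq_one _)
    (by
      intro h1
      rw [h1, orderOf_one] at hord
      norm_num at hord)
    (by
      rw [hn, Nat.card_congr e.toEquiv]
      exact h121) (m := 12) (by rw [hn])
  -- orders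
  have hbot := H879.TL.scalars_bot_of_odd hC (fixQ_of_le hQ (hPc.le.trans hH.1.le)) (by rw [hn]; decide)
  have e2 : G ≃* alternatingGroup (Fin 12) := e.symm.trans ((H879.TL.socEquiv hbot).trans f)
  apply hcard
  rw [Nat.card_congr e2.toEquiv]
  have h3 := two_mul_nat_card_alternatingGroup (α := Fin 12)
  rw [Nat.card_perm, Nat.card_eq_fintype_card (α := Fin 12), Fintype.card_fin] at h3
  have : Nat.factorial 12 = 479001600 := by decide
  omega

/-- **`M₁₁` in dimension `11`.** -/
theorem m11_kill (h2 : (2 : F) ≠ 0) (h3 : (3 : F) ≠ 0) {Q : QuadraticForm F (ι → F)} (hQ : Nondeg Q)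
    (hn : Fintype.card ι = 11) {H P : Subgroup (GL ι F)} (hH : IsMaximalIn (omegaGL (Q : (ι → F) → F)) H)
    (hPc : IsResidualCore H P) (hM : Spor.IsoM11 (Soc P)) : False := by
  have hC : Core P := core_of_residual hPc
  have hbot := H879.TL.scalars_bot_of_odd hC (fixQ_of_le hQ (hPc.le.trans hH.1.le)) (by rw [hn]; decide)
  obtain ⟨e0⟩ := hM
  let e : P ≃* Spor.M11 := (H879.TL.socEquiv hbot).trans e0
  obtain ⟨v0, hv0, hA, hB, hY, hX⟩ := Tab.rel.exists_fixed (σ := repOf e) h2 h3
    (by rw [Module.finrank_fintype_fun_eq_card, hn]) (repOf_ne_one e M11V.X_ne_one)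
  have hL := Grp.L0_le (T := H637.JW.stab (repOf e) v0) hA hB hY hX
  have hfin : Finite Spor.M11 := Nat.finite_of_card_ne_zero (by rw [Grp.card11]; norm_num)
  refine kill_of_index h2 hQ hn hH hPc Grp.simple11 e (L := H637.JW.stab (repOf e) v0) ?_
    (x := Tab.X * Tab.Y) (mul_mem hX hY) Grp.order_XY (by rw [Grp.card11]; norm_num) (by rw [Grp.card11]; norm_num)
    hv0 (fun l hl => hl)
  rw [← Grp.index_L0]
  exact Subgroup.index_dvd_of_le hL

/-- **`M₁₂` in dimension `11`.** -/
theorem m12_kill (h2 : (2 : F) ≠ 0) (h3 : (3 : F) ≠ 0) {Q : QuadraticForm F (ι → F)} (hQ : Nondeg Q)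
    (hn : Fintype.card ι = 11) {H P : Subgroup (GL ι F)} (hH : IsMaximalIn (omegaGL (Q : (ι → F) → F)) H)
    (hPc : IsResidualCore H P) (hM : Spor.IsoM12 (Soc P)) : False := by
  have hC : Core P := core_of_residual hPc
  have hbot := H879.TL.scalars_bot_of_odd hC (fixQ_of_le hQ (hPc.le.trans hH.1.le)) (by rw [hn]; decide)
  obtain ⟨e0⟩ := hM
  let e : P ≃* Spor.M12 := (H879.TL.socEquiv hbot).trans e0
  have hX1 : M12V.inc Tab.X ≠ 1 := fun h => M11V.X_ne_one (Subtype.ext (congrArg (fun g : Spor.M12 => (g : Equiv.Perm GolayPt)) h))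
  have hfin : Finite Spor.M12 := Nat.finite_of_card_ne_zero (by rw [Grp.card12]; norm_num)
  have hfin1 : Finite Spor.M11 := Nat.finite_of_card_ne_zero (by rw [Grp.card11]; norm_num)
  obtain ⟨v0, hv0, hor⟩ := M12V.m12_fixed (σ := repOf e) h2 h3
    (by rw [Module.finrank_fintype_fun_eq_card, hn]) ⟨_, repOf_ne_one e hX1⟩
  have hinc : Function.Injective M12V.inc := Subgroup.inclusion_injective _
  obtain ⟨θ, hθ, hθv⟩ : ∃ θ : Spor.M11 →* Spor.M12, Function.Injective θ ∧ ∀ g, repOf e (θ g) v0 = v0 := by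
    rcases hor with h | h
    · exact ⟨M12V.inc, hinc, h⟩
    · refine ⟨M12V.tw.comp M12V.inc, ?_, h⟩
      intro a b hab
      apply hinc
      have := congrArg M12V.tw hab
      simpa only [MonoidHom.comp_apply, M12V.tw_tw] using this
  refine kill_of_index h2 hQ hn hH hPc Grp.simple12 e (L := θ.range) ?_
    (x := θ (Tab.X * Tab.Y)) ⟨_, rfl⟩ (by rw [orderOf_injective θ hθ, Grp.order_XY]) (by rw [Grp.card12]; norm_num)
    (by rw [Grp.card12]; norm_num) hv0 ?_
  · have h1 := θ.range.card_mul_index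
    have h4 : Nat.card θ.range = 7920 := by
      rw [← Grp.card11]
      exact (Nat.card_congr (MonoidHom.ofInjective hθ).toEquiv).symm
    rw [h4, Grp.card12] at h1
    have : θ.range.index = 12 := by omega
    rw [this]
  · rintro _ ⟨g, rfl⟩
    exact hθv g

end Cfsg.Agent.H882.Del
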