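import Cfsg.Agent.H882.Del.Max

/-!
# Deleted permutation modules from fixed vectors

`P ≤ GL(V)` irreducible, `K ≤ P` of index `dim V + 1` fixing a vector `v0 ≠ 0`.

* `exists_sys` : the images of `v0` form a `Sys`;
* `mem_SG_of_lines` : an isometry permuting the lines `⟨v i⟩` is in `SG`;
* `dc_of_prime` : `K` contains an element of prime order `|P : K| - 1` : then `P = K ∪ K g K`;
* `main` : `H` maximal in `E Q`, normalising `P`, `h v0 ∈ F (P v0)` for `h ∈ H`: then `P ≃ Alt (dim V + 1)`.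
-/

set_option autoImplicit false
set_option linter.unusedSectionVars false

namespace Cfsg.Agent.H882.Del

open QuadraticMap hiding proj
open Cfsg.Agent.LieClassical.OrthCore Cfsg.Agent.LieClassical.OrthTrans Cfsg.Agent.LieClassical.OrthFinite
open Cfsg.Agent.H882.Ten
open scoped commutatorElement

variable {F : Type*} [Field F] {V : Type*} [AddCommGroup V] [Module F V]

/-- Irreducible. -/
def Irr (P : Subgroup (V ≃ₗ[F] V)) : Prop :=
  ∀ W : Submodule F V, (∀ g ∈ P, ∀ w ∈ W, g w ∈ W) → W = ⊥ ∨ W = ⊤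

section orbit

variable {P : Subgroup (V ≃ₗ[F] V)} {K : Subgroup P} {v0 : V}

/-- The images of `v0`. -/
noncomputable def orb (P : Subgroup (V ≃ₗ[F] V)) (K : Subgroup P) (v0 : V) (i : P ⧸ K) : V :=
  ((i.out : P) : V ≃ₗ[F] V) v0

theorem orb_mk (hfix : ∀ k ∈ K, (k : V ≃ₗ[F] V) v0 = v0) (g : P) :
    orb P K v0 (g : P ⧸ K) = (g : V ≃ₗ[F] V) v0 := by
  obtain ⟨k, hk⟩ := QuotientGroup.mk_out_eq_mul K g
  unfold orb
  rw [hk]
  change (g : V ≃ₗ[F] V) (((k : P) : V ≃ₗ[F] V) v0) = _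
  rw [hfix k k.2]

theorem orb_smul (hfix : ∀ k ∈ K, (k : V ≃ₗ[F] V) v0 = v0) (g : P) (i : P ⧸ K) :
    (g : V ≃ₗ[F] V) (orb P K v0 i) = orb P K v0 (g • i) := by
  induction i using QuotientGroup.induction_on with
  | H h => rw [orb_mk hfix, MulAction.Quotient.smul_mk, orb_mk hfix]; rfl

theorem sys_orb [Fintype (P ⧸ K)] (hirr : Irr P) (hK : K.index = Module.finrank F V + 1) (h2 : 2 ≤ Module.finrank F V)
    (h0 : v0 ≠ 0) (hfix : ∀ k ∈ K, (k : V ≃ₗ[F] V) v0 = v0) : Sys F (orb P K v0) where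
  span := by
    rcases hirr (Submodule.span F (Set.range (orb P K v0))) (by
      intro g hg w hw
      induction hw using Submodule.span_induction with
      | mem w hw =>
        obtain ⟨i, rfl⟩ := hw
        rw [orb_smul hfix ⟨g, hg⟩ i]
        exact Submodule.subset_span ⟨_, rfl⟩
      | zero => rw [map_zero]; exact Submodule.zero_mem _
      | add a b _ _ ha hb => rw [map_add]; exact Submodule.add_mem _ ha hb
      | smul c a _ ha => rw [map_smul]; exact Submodule.smul_mem _ _ ha) with h | h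
    · exfalso
      apply h0
      have h1 : orb P K v0 ((1 : P) : P ⧸ K) ∈ Submodule.span F (Set.range (orb P K v0)) :=
        Submodule.subset_span ⟨_, rfl⟩
      rw [h, Submodule.mem_bot, orb_mk hfix] at h1
      exact h1
    · exact h
  card := by
    rw [← hK, Subgroup.index, Nat.card_eq_fintype_card]
  pos := by omega
  sum := by
    have hs : ∀ g ∈ P, g (∑ i, orb P K v0 i) = ∑ i, orb P K v0 i := by
      intro g hg
      rw [map_sum]
      exact (Equiv.sum_comp (MulAction.toPerm (⟨g, hg⟩ : P) : Equiv.Perm (P ⧸ K)) (orb P K v0)).symm ▸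
        Finset.sum_congr rfl fun i _ => orb_smul hfix ⟨g, hg⟩ i
    have hfin : Module.Finite F V := Module.finite_of_finrank_pos (by omega)
    rcases hirr (Submodule.span F {∑ i, orb P K v0 i}) (by
      intro g hg w hw
      obtain ⟨c, rfl⟩ := Submodule.mem_span_singleton.1 hw
      rw [map_smul, hs g hg]
      exact Submodule.smul_mem _ _ (Submodule.mem_span_singleton_self _)) with h | h
    · exact Submodule.span_singleton_eq_bot.1 h
    · exfalso
      have h1 := finrank_span_le_card (R := F) ({∑ i, orb P K v0 i} : Set V)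
      rw [h, finrank_top] at h1
      simp at h1
      omega

theorem gr_orb {Q : QuadraticForm F V} (hPO : P ≤ O Q) (hfix : ∀ k ∈ K, (k : V ≃ₗ[F] V) v0 = v0)
    (hdc : ∀ g ∉ K, ∀ g' ∉ K, ∃ k ∈ K, ∃ k' ∈ K, g' = k * g * k') :
    ∃ a : F, Gr Q (orb P K v0) a := by
  by_cases hK : ∃ g1 : P, g1 ∉ K
  · obtain ⟨g1, hg1⟩ := hK
    refine ⟨polar Q v0 ((g1 : V ≃ₗ[F] V) v0), fun i j hij => ?_⟩
    induction i using QuotientGroup.induction_on with
    | H g =>
      induction j using QuotientGroup.induction_on with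
      | H h =>
        rw [orb_mk hfix, orb_mk hfix]
        have h1 : g⁻¹ * h ∉ K := fun hc => hij (QuotientGroup.eq.2 hc)
        obtain ⟨k, hk, k', hk', e⟩ := hdc g1 hg1 _ h1
        have h2 : (h : V ≃ₗ[F] V) v0 = (g : V ≃ₗ[F] V) ((k : V ≃ₗ[F] V) ((g1 : V ≃ₗ[F] V) v0)) := by
          have e2 : h = g * (k * g1 * k') := by rw [← e, mul_inv_cancel_left]
          rw [e2]
          change (g : V ≃ₗ[F] V) ((k : V ≃ₗ[F] V) ((g1 : V ≃ₗ[F] V) ((k' : V ≃ₗ[F] V) v0))) = _
          rw [hfix k' hk']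
        rw [h2, polar_map (hPO g.2)]
        have h3 := polar_map (Q := Q) (hPO k.2) v0 ((g1 : V ≃ₗ[F] V) v0)
        rw [hfix k hk] at h3
        exact h3
  · push Not at hK
    refine ⟨0, fun i j hij => absurd ?_ hij⟩
    induction i using QuotientGroup.induction_on with
    | H g =>
      induction j using QuotientGroup.induction_on with
      | H h => exact QuotientGroup.eq.2 (hK _)

end orbit

/-- An isometry permuting the lines `⟨v i⟩` belongs to `SG`. -/
theorem mem_SG_of_lines {ι : Type*} [Fintype ι] [DecidableEq ι] {v : ι → V} {Q : QuadraticForm F V} {a : F}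
    (S : Sys F v) (hg : Gr Q v a) (ha : a ≠ 0) (h3 : 3 ≤ Fintype.card ι) {h : V ≃ₗ[F] V} (hh : h ∈ O Q)
    (hl : ∀ i, ∃ j, ∃ c : F, h (v i) = c • v j) : h ∈ SG F v := by
  choose s c hsc using hl
  have hc0 : ∀ i, c i ≠ 0 := by
    intro i h0
    have h1 := hsc i
    rw [h0, zero_smul] at h1
    exact S.ne_zero i (h.map_eq_zero_iff.1 h1)
  have hinj : Function.Injective s := by
    intro i j hij
    have h1 : h (c j • v i) = h (c i • v j) := by
      rw [map_smul, map_smul, hsc, hsc, hij, smul_smul, smul_smul, mul_comm]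
    exact (S.eq_of_smul h3 (h.injective h1)).2 (hc0 j)
  let σ : Equiv.Perm ι := Equiv.ofBijective s (Finite.injective_iff_bijective.1 hinj)
  have hσ : ∀ i, σ i = s i := fun i => rfl
  have hsum : ∑ j, c (σ.symm j) • v j = 0 := by
    have h1 : ∑ i, c i • v (σ i) = 0 := by
      have h2 : h (∑ i, v i) = ∑ i, c i • v (σ i) := by
        rw [map_sum]
        exact Finset.sum_congr rfl fun i _ => hsc i
      rw [← h2, S.sum, map_zero]
    rw [← h1, ← Equiv.sum_comp σ]
    exact Finset.sum_congr rfl fun i _ => by rw [σ.symm_apply_apply]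
  have hconst : ∀ i j, c i = c j := by
    intro i j
    have := S.rel hsum (σ i) (σ j)
    rwa [σ.symm_apply_apply, σ.symm_apply_apply] at this
  obtain ⟨i, j, hij⟩ := S.exists_two
  have hcc : c i * c i = 1 := by
    have h1 := polar_map hh (v i) (v j)
    rw [hsc, hsc, hconst j i, QuadraticMap.polar_smul_left, QuadraticMap.polar_smul_right, smul_eq_mul, smul_eq_mul,
      hg i j hij, hg _ _ (fun h => hij (hinj h))] at h1
    have h2 : (c i * c i - 1) * a = 0 := by linear_combination h1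
    exact sub_eq_zero.1 ((mul_eq_zero.1 h2).resolve_right ha)
  refine ⟨σ, c i, mul_self_eq_one_iff.1 hcc, fun k => ?_⟩
  rw [hsc, hconst k i, hσ]

/-- `K` contains an element of prime order `|G : K| - 1`, not in every conjugate of `K`. -/
theorem dc_of_prime {G : Type*} [Group G] [Finite G] {K : Subgroup G} {r : ℕ} (hr : r.Prime) (hidx : K.index = r + 1)
    {x : G} (hx : x ∈ K) (hxr : x ^ r = 1) {g1 : G} (hg1 : g1⁻¹ * x * g1 ∉ K) :
    ∀ g ∉ K, ∀ g' ∉ K, ∃ k ∈ K, ∃ k' ∈ K, g' = k * g * k' := by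
  classical
  have hord : orderOf x = r := by
    refine ((Nat.dvd_prime hr).1 (orderOf_dvd_of_pow_eq_one hxr)).resolve_left fun h => hg1 ?_
    rw [orderOf_eq_one_iff.1 h, mul_one, inv_mul_cancel]
    exact K.one_mem
  -- the orbit of `g1 K` under `⟨x⟩` has `r` elements
  have hcard : Nat.card (Subgroup.zpowers x) = r := by rw [Nat.card_zpowers, hord]
  have h1 := Nat.card_congr (MulAction.orbitProdStabilizerEquivGroup (Subgroup.zpowers x) ((g1 : G) : G ⧸ K))
  rw [Nat.card_prod, hcard] at h1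
  have hstab : Nat.card (MulAction.stabilizer (Subgroup.zpowers x) ((g1 : G) : G ⧸ K)) ≠ r := by
    intro h2
    have h3 : MulAction.stabilizer (Subgroup.zpowers x) ((g1 : G) : G ⧸ K) = ⊤ :=
      Subgroup.eq_top_of_card_eq _ (by rw [h2, hcard])
    have h4 : (⟨x, Subgroup.mem_zpowers x⟩ : Subgroup.zpowers x) ∈
        MulAction.stabilizer (Subgroup.zpowers x) ((g1 : G) : G ⧸ K) := by rw [h3]; trivial
    rw [MulAction.mem_stabilizer_iff] at h4
    have h5 : ((x * g1 : G) : G ⧸ K) = ((g1 : G) : G ⧸ K) := h4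
    rw [eq_comm, QuotientGroup.eq, ← mul_assoc] at h5
    exact hg1 h5
  have horb : Nat.card (MulAction.orbit (Subgroup.zpowers x) ((g1 : G) : G ⧸ K)) = r := by
    have h2 : Nat.card (MulAction.stabilizer (Subgroup.zpowers x) ((g1 : G) : G ⧸ K)) ∣ r := ⟨_, by rw [mul_comm]; exact h1.symm⟩
    rcases (Nat.dvd_prime hr).1 h2 with h3 | h3
    · rw [h3, mul_one] at h1; exact h1
    · exact absurd h3 hstab
  have h1K : ((1 : G) : G ⧸ K) ∉ MulAction.orbit (Subgroup.zpowers x) ((g1 : G) : G ⧸ K) := by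
    rintro ⟨⟨y, hy⟩, h⟩
    have h3 : ((y * g1 : G) : G ⧸ K) = ((1 : G) : G ⧸ K) := h
    rw [eq_comm, QuotientGroup.eq, inv_one, one_mul] at h3
    have hyK : y ∈ K := (Subgroup.zpowers_le.2 hx) hy
    have h4 : g1 ∈ K := (K.mul_mem_cancel_left hyK).1 h3
    exact hg1 (K.mul_mem (K.mul_mem (K.inv_mem h4) hx) h4)
  have key : ∀ g' : G, g' ∉ K → ((g' : G) : G ⧸ K) ∈ MulAction.orbit (Subgroup.zpowers x) ((g1 : G) : G ⧸ K) := by
    intro g' hg'
    by_contra hne
    have hne1 : ((g' : G) : G ⧸ K) ≠ ((1 : G) : G ⧸ K) := by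
      intro h
      rw [eq_comm, QuotientGroup.eq, inv_one, one_mul] at h
      exact hg' h
    have h2 : (insert ((g' : G) : G ⧸ K) (insert ((1 : G) : G ⧸ K)
        (MulAction.orbit (Subgroup.zpowers x) ((g1 : G) : G ⧸ K)))).ncard = r + 2 := by
      rw [Set.ncard_insert_of_notMem (by
        rintro (h | h)
        · exact hne1 h
        · exact hne h) (Set.toFinite _), Set.ncard_insert_of_notMem h1K (Set.toFinite _)]
      have : (MulAction.orbit (Subgroup.zpowers x) ((g1 : G) : G ⧸ K)).ncard = r := horb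
      rw [this]
    have h3 : (insert ((g' : G) : G ⧸ K) (insert ((1 : G) : G ⧸ K)
        (MulAction.orbit (Subgroup.zpowers x) ((g1 : G) : G ⧸ K)))).ncard ≤ Nat.card (G ⧸ K) := by
      rw [← Set.ncard_univ]
      exact Set.ncard_le_ncard (Set.subset_univ _) (Set.toFinite _)
    rw [h2] at h3
    have h4 : Nat.card (G ⧸ K) = r + 1 := hidx
    omega
  intro g hg g' hg'
  obtain ⟨⟨y, hy⟩, hy'⟩ := key g hg
  obtain ⟨⟨z, hz⟩, hz'⟩ := key g' hg'
  have hy2 : ((y * g1 : G) : G ⧸ K) = ((g : G) : G ⧸ K) := hy'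
  have hz2 : ((z * g1 : G) : G ⧸ K) = ((g' : G) : G ⧸ K) := hz'
  rw [QuotientGroup.eq] at hy2 hz2
  have hyK : y ∈ K := (Subgroup.zpowers_le.2 hx) hy
  have hzK : z ∈ K := (Subgroup.zpowers_le.2 hx) hz
  -- `g1 = y⁻¹ g ((y g1)⁻¹ g)⁻¹`
  refine ⟨z * y⁻¹, K.mul_mem hzK (K.inv_mem hyK), ((y * g1)⁻¹ * g)⁻¹ * ((z * g1)⁻¹ * g'),
    K.mul_mem (K.inv_mem hy2) hz2, ?_⟩
  group

/-- The lines `F (g v0)`, `g ∈ P`. -/
def Lines (P H : Subgroup (V ≃ₗ[F] V)) (v0 : V) : Prop := ∀ h ∈ H, ∃ g ∈ P, ∃ c : F, h v0 = c • g v0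

variable [Finite F] {P H : Subgroup (V ≃ₗ[F] V)} {K : Subgroup P} {v0 : V} {Q : QuadraticForm F V}

/-- `H` preserves the set of the lines `⟨v i⟩` -/
theorem le_SG [Fintype (P ⧸ K)] [DecidableEq (P ⧸ K)] {a : F} (S : Sys F (orb P K v0)) (hg : Gr Q (orb P K v0) a) (ha : a ≠ 0)
    (h3 : 3 ≤ Fintype.card (P ⧸ K)) (hHO : H ≤ O Q) (hfix : ∀ k ∈ K, (k : V ≃ₗ[F] V) v0 = v0)
    (hn : ∀ h ∈ H, ∀ x ∈ P, h * x * h⁻¹ ∈ P) (hl : Lines P H v0) : H ≤ SG F (orb P K v0) := by
  intro h hh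
  refine mem_SG_of_lines S hg ha h3 (hHO hh) fun i => ?_
  induction i using QuotientGroup.induction_on with
  | H g =>
    obtain ⟨g2, hg2, c, hc⟩ := hl h hh
    refine ⟨(((⟨h * g * h⁻¹, hn h hh g g.2⟩ : P) * ⟨g2, hg2⟩ : P) : P ⧸ K), c, ?_⟩
    rw [orb_mk hfix, orb_mk hfix]
    change h ((g : V ≃ₗ[F] V) v0) = c • (h * g * h⁻¹ * g2) v0
    have e : (h * (g : V ≃ₗ[F] V) * h⁻¹ * g2) v0 = h ((g : V ≃ₗ[F] V) (h⁻¹ (g2 v0))) := rfl
    rw [e, ← map_smul, ← map_smul, ← map_smul, ← hc]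
    congr 2
    exact (LinearEquiv.symm_apply_apply h v0).symm

/-- **Main theorem.** `P` irreducible, `K ≤ P` of index `dim V + 1 ≥ 6` fixes `v0 ≠ 0`, `P = K ∪ K g K`, `P` normal in
the maximal subgroup `H` of `E Q`, and `H` permutes the lines spanned by the images of `v0`. Then `P ≃ Alt m`,
`m = dim V + 1`, and the characteristic divides neither `m` nor (if it is not `3`) `m + 1`. -/
theorem main (h2 : (2 : F) ≠ 0) (hG : Good Q) (hH : Cfsg.Geo.IsMaximalIn (E Q) H) (hPH : P ≤ H)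
    (hn : ∀ h ∈ H, ∀ x ∈ P, h * x * h⁻¹ ∈ P) (hp : ⁅P, P⁆ = P) (hne : P ≠ ⊥) (hirr : Irr P)
    (hK : K.index = Module.finrank F V + 1) (h0 : v0 ≠ 0) (hfix : ∀ k ∈ K, (k : V ≃ₗ[F] V) v0 = v0)
    (hdc : ∀ g ∉ K, ∀ g' ∉ K, ∃ k ∈ K, ∃ k' ∈ K, g' = k * g * k') (hl : Lines P H v0) {m : ℕ}
    (hm : Module.finrank F V + 1 = m) :
    Nonempty (P ≃* alternatingGroup (Fin m)) ∧ (m : F) ≠ 0 ∧ ((3 : F) ≠ 0 → (m : F) + 1 ≠ 0) := by
  classical
  have hd := hG.dim
  have hfinV : Module.Finite F V := Module.finite_of_finrank_pos (by omega)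
  have : Finite V := Module.finite_of_finite F
  have : Finite (V ≃ₗ[F] V) := by
    refine Finite.of_injective (fun f : V ≃ₗ[F] V => (f : V → V)) ?_
    intro f g hfg
    exact LinearEquiv.ext fun x => congrFun hfg x
  have : Fintype (P ⧸ K) := Fintype.ofFinite _
  have S : Sys F (orb P K v0) := sys_orb hirr hK (by omega) h0 hfix
  have hcard : Fintype.card (P ⧸ K) = m := by rw [S.card, hm]
  obtain ⟨a, hg⟩ := gr_orb (K := K) (v0 := v0) ((hPH.trans hH.1.le).trans E_le_O) hfix hdc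
  have ha : a ≠ 0 := a_ne S hg hG.nondeg
  have hSG : H ≤ SG F (orb P K v0) := le_SG S hg ha (by omega) (hH.1.le.trans E_le_O) hfix hn hl
  refine ⟨?_, ?_, fun h3 hm1 => ?_⟩
  · have h1 := core_eq S hg h2 hG (by omega) hH hSG hPH hn hp hne
    obtain ⟨e⟩ := altG_equiv S (by omega) hcard
    exact ⟨(MulEquiv.subgroupCongr h1).trans e⟩
  · rw [← hcard]
    exact card_ne S hg hG.nondeg (by omega)
  · exact not_maximal S hg h2 hG h3 (by omega) (by rw [hcard]; exact hm1) hH hSG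

end Cfsg.Agent.H882.Del
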