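import Cfsg.Agent.H882.Del.Syl

/-!
# Deleted permutation modules of prime dimension

`mat_prime` : as `mat_main`, `dim = r` prime, `K` contains an element of order `r`, `r² ∤ |P|`; no hypothesis on `H`.
-/

set_option autoImplicit false
set_option linter.unusedSectionVars false

namespace Cfsg.Agent.H882.Del

open QuadraticMap hiding proj
open Cfsg.Agent.LieClassical.OrthCore Cfsg.Agent.LieClassical.OrthTrans Cfsg.Agent.LieClassical.OrthFinite
open Cfsg Cfsg.Geo Matrix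
open Cfsg.Agent.H915.LD

universe u

/-- `⟨x⟩` is transitive on the cosets different from `K`. -/
theorem orbit_of_prime {G : Type*} [Group G] [Finite G] {K : Subgroup G} {r : ℕ} (hr : r.Prime) (hidx : K.index = r + 1)
    {x : G} (hx : x ∈ K) (hxr : x ^ r = 1) {g1 : G} (hg1 : g1⁻¹ * x * g1 ∉ K) :
    ∀ g' : G, g' ∉ K → ∃ j : ℕ, ((g' : G) : G ⧸ K) = x ^ j • ((g1 : G) : G ⧸ K) := by
  classical
  have hord : orderOf x = r := by
    refine ((Nat.dvd_prime hr).1 (orderOf_dvd_of_pow_eq_one hxr)).resolve_left fun h => hg1 ?_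
    rw [orderOf_eq_one_iff.1 h, mul_one, inv_mul_cancel]
    exact K.one_mem
  have hcard : Nat.card (Subgroup.zpowers x) = r := by rw [Nat.card_zpowers, hord]
  have h1 := Nat.card_congr (MulAction.orbitProdStabilizerEquivGroup (Subgroup.zpowers x) ((g1 : G) : G ⧸ K))
  rw [Nat.card_prod, hcard] at h1
  have hstab : Nat.card (MulAction.stabilizer (Subgroup.zpowers x) ((g1 : G) : G ⧸ K)) ≠ r := by
    intro h2
    have h3 : MulAction.stabilizer (Subgroup.zpowers x) ((g1 : G) : G ⧸ K) = ⊤ :=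
      Subgroup.eq_top_of_card_eq _ (by rw [h2, hcard])
    have h4 : (⟨x, Subgroup.mem_zpowers x⟩ : Subgroup.zpowers x) ∈
        MulAction.stabilizer (Subgroup.zpowers x) ((g1 : G) : G ⧸ K) := by rw [h3]; trivial
    rw [MulAction.mem_stabilizer_iff] at h4
    have h5 : ((x * g1 : G) : G ⧸ K) = ((g1 : G) : G ⧸ K) := h4
    rw [eq_comm, QuotientGroup.eq, ← mul_assoc] at h5
    exact hg1 h5
  have horb : Nat.card (MulAction.orbit (Subgroup.zpowers x) ((g1 : G) : G ⧸ K)) = r := by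
    have h2 : Nat.card (MulAction.stabilizer (Subgroup.zpowers x) ((g1 : G) : G ⧸ K)) ∣ r := ⟨_, by rw [mul_comm]; exact h1.symm⟩
    rcases (Nat.dvd_prime hr).1 h2 with h3 | h3
    · rw [h3, mul_one] at h1; exact h1
    · exact absurd h3 hstab
  have h1K : ((1 : G) : G ⧸ K) ∉ MulAction.orbit (Subgroup.zpowers x) ((g1 : G) : G ⧸ K) := by
    rintro ⟨⟨y, hy⟩, h⟩
    have h3 : ((y * g1 : G) : G ⧸ K) = ((1 : G) : G ⧸ K) := h
    rw [eq_comm, QuotientGroup.eq, inv_one, one_mul] at h3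
    have hyK : y ∈ K := (Subgroup.zpowers_le.2 hx) hy
    have h4 : g1 ∈ K := (K.mul_mem_cancel_left hyK).1 h3
    exact hg1 (K.mul_mem (K.mul_mem (K.inv_mem h4) hx) h4)
  have key : ∀ g' : G, g' ∉ K → ((g' : G) : G ⧸ K) ∈ MulAction.orbit (Subgroup.zpowers x) ((g1 : G) : G ⧸ K) := by
    intro g' hg'
    by_contra hne
    have hne1 : ((g' : G) : G ⧸ K) ≠ ((1 : G) : G ⧸ K) := by
      intro h
      rw [eq_comm, QuotientGroup.eq, inv_one, one_mul] at h
      exact hg' h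
    have h2 : (insert ((g' : G) : G ⧸ K) (insert ((1 : G) : G ⧸ K)
        (MulAction.orbit (Subgroup.zpowers x) ((g1 : G) : G ⧸ K)))).ncard = r + 2 := by
      rw [Set.ncard_insert_of_notMem (by
        rintro (h | h)
        · exact hne1 h
        · exact hne h) (Set.toFinite _), Set.ncard_insert_of_notMem h1K (Set.toFinite _)]
      have : (MulAction.orbit (Subgroup.zpowers x) ((g1 : G) : G ⧸ K)).ncard = r := horb
      rw [this]
    have h3 : (insert ((g' : G) : G ⧸ K) (insert ((1 : G) : G ⧸ K)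
        (MulAction.orbit (Subgroup.zpowers x) ((g1 : G) : G ⧸ K)))).ncard ≤ Nat.card (G ⧸ K) := by
      rw [← Set.ncard_univ]
      exact Set.ncard_le_ncard (Set.subset_univ _) (Set.toFinite _)
    rw [h2] at h3
    have h4 : Nat.card (G ⧸ K) = r + 1 := hidx
    omega
  intro g' hg'
  obtain ⟨⟨y, hy⟩, h⟩ := key g' hg'
  obtain ⟨j, rfl⟩ := (mem_powers_iff_mem_zpowers.2 hy)
  exact ⟨j, h.symm⟩

section abs

variable {F : Type*} [Field F] {V : Type*} [AddCommGroup V] [Module F V] {P : Subgroup (V ≃ₗ[F] V)} {K : Subgroup P}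
  {v0 : V}

/-- An element of `K` not contained in a conjugate. -/
theorem exists_conj_not_mem (hirr : Irr P) (h0 : v0 ≠ 0) (hfix : ∀ k ∈ K, (k : V ≃ₗ[F] V) v0 = v0) {x : P}
    (hx1 : x ≠ 1) : ∃ g1 : P, g1⁻¹ * x * g1 ∉ K := by
  by_contra hcon
  push Not at hcon
  apply hx1
  have h1 : ∀ g : P, (x : V ≃ₗ[F] V) ((g : V ≃ₗ[F] V) v0) = (g : V ≃ₗ[F] V) v0 := by
    intro g
    have h2 := hfix _ (hcon g)
    have h3 : (g : V ≃ₗ[F] V) ((((g⁻¹ * x * g : P) : V ≃ₗ[F] V)) v0) = (g : V ≃ₗ[F] V) v0 := by rw [h2]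
    have h4 : (x : V ≃ₗ[F] V) ((g : V ≃ₗ[F] V) v0) = (g : V ≃ₗ[F] V) ((((g⁻¹ * x * g : P) : V ≃ₗ[F] V)) v0) := by
      have e : x * g = g * (g⁻¹ * x * g) := by group
      change ((x * g : P) : V ≃ₗ[F] V) v0 = ((g * (g⁻¹ * x * g) : P) : V ≃ₗ[F] V) v0
      rw [e]
    rw [h4, h3]
  let W : Submodule F V := LinearMap.eqLocus ((x : V ≃ₗ[F] V) : V →ₗ[F] V) LinearMap.id
  rcases hirr (Submodule.span F (Set.range fun g : P => (g : V ≃ₗ[F] V) v0)) (by
    intro g hg w hw
    induction hw using Submodule.span_induction with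
    | mem w hw =>
      obtain ⟨i, rfl⟩ := hw
      exact Submodule.subset_span ⟨⟨g, hg⟩ * i, rfl⟩
    | zero => rw [map_zero]; exact Submodule.zero_mem _
    | add a b _ _ ha hb => rw [map_add]; exact Submodule.add_mem _ ha hb
    | smul c a _ ha => rw [map_smul]; exact Submodule.smul_mem _ _ ha) with h | h
  · exfalso
    apply h0
    have : v0 ∈ Submodule.span F (Set.range fun g : P => (g : V ≃ₗ[F] V) v0) := Submodule.subset_span ⟨1, rfl⟩
    rwa [h, Submodule.mem_bot] at this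
  · have h2 : Submodule.span F (Set.range fun g : P => (g : V ≃ₗ[F] V) v0) ≤ W := by
      rw [Submodule.span_le]
      rintro _ ⟨g, rfl⟩
      exact h1 g
    rw [h] at h2
    apply Subtype.ext
    apply LinearEquiv.ext
    intro v
    exact h2 trivial

/-- The fixed space of an element of prime order `dim V` is the line of `v0`. -/
theorem uniq_of_prime [Finite P] (hirr : Irr P) {r : ℕ} (hr : r.Prime) (hrV : Module.finrank F V = r)
    (hK : K.index = r + 1) (h0 : v0 ≠ 0) (hfix : ∀ k ∈ K, (k : V ≃ₗ[F] V) v0 = v0) {x : P} (hx : x ∈ K)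
    (hxr : x ^ r = 1) (hx1 : x ≠ 1) {w : V} (hw : (x : V ≃ₗ[F] V) w = w) : ∃ c : F, w = c • v0 := by
  classical
  have : Fintype (P ⧸ K) := Fintype.ofFinite _
  have S : Sys F (orb P K v0) := sys_orb hirr (by rw [hK, hrV]) (by rw [hrV]; exact hr.two_le) h0 hfix
  obtain ⟨g1, hg1⟩ := exists_conj_not_mem hirr h0 hfix hx1
  have hor := orbit_of_prime hr hK hx hxr hg1
  have hfinV : Module.Finite F V := Module.finite_of_finrank_pos (by rw [hrV]; exact hr.pos)
  obtain ⟨c, hc⟩ : ∃ c : P ⧸ K → F, ∑ i, c i • orb P K v0 i = w := by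
    have h1 : w ∈ Submodule.span F (Set.range (orb P K v0)) := by rw [S.span]; trivial
    rw [← Fintype.range_linearCombination F] at h1
    obtain ⟨c, hc⟩ := h1
    exact ⟨c, hc⟩
  have h1 : ∑ i, (c (x⁻¹ • i) - c i) • orb P K v0 i = 0 := by
    simp only [sub_smul, Finset.sum_sub_distrib]
    rw [hc, sub_eq_zero]
    conv_rhs => rw [← hw, ← hc, map_sum]
    rw [← Equiv.sum_comp (MulAction.toPerm x : Equiv.Perm (P ⧸ K))]
    refine Finset.sum_congr rfl fun i _ => ?_
    change c (x⁻¹ • x • i) • orb P K v0 (x • i) = _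
    rw [inv_smul_smul, map_smul, orb_smul hfix]
  have hx0 : x • ((1 : P) : P ⧸ K) = ((1 : P) : P ⧸ K) := by
    rw [MulAction.Quotient.smul_mk]
    exact (QuotientGroup.eq.2 (by simpa using hx)).symm
  have h2 : ∀ i, c (x • i) = c i := by
    intro i
    have h3 := S.rel h1 (x • i) ((1 : P) : P ⧸ K)
    rw [inv_smul_smul, show x⁻¹ • ((1 : P) : P ⧸ K) = ((1 : P) : P ⧸ K) by rw [inv_smul_eq_iff, hx0], sub_self,
      sub_eq_zero] at h3
    exact h3.symm
  have h3 : ∀ (j : ℕ) (i : P ⧸ K), c (x ^ j • i) = c i := by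
    intro j
    induction j with
    | zero => intro i; rw [pow_zero, one_smul]
    | succ j ih => intro i; rw [pow_succ', mul_smul, h2, ih]
  have h4 : ∀ i : P ⧸ K, i ≠ ((1 : P) : P ⧸ K) → c i = c ((g1 : P) : P ⧸ K) := by
    intro i
    induction i using QuotientGroup.induction_on with
    | H g =>
      intro hi
      obtain ⟨j, hj⟩ := hor g (fun hg => hi (QuotientGroup.eq.2 (by simpa using hg)))
      rw [hj, h3]
  refine ⟨c ((1 : P) : P ⧸ K) - c ((g1 : P) : P ⧸ K), ?_⟩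
  have h5 : w = ∑ i, (c i - c ((g1 : P) : P ⧸ K)) • orb P K v0 i := by
    simp only [sub_smul, Finset.sum_sub_distrib]
    rw [hc, ← Finset.smul_sum, S.sum, smul_zero, sub_zero]
  rw [h5, Finset.sum_eq_single ((1 : P) : P ⧸ K)]
  · rw [orb_mk hfix]
    rfl
  · intro i _ hi
    rw [h4 i hi, sub_self, zero_smul]
  · intro h; exact absurd (Finset.mem_univ _) h

end abs

variable {ι : Type} [Fintype ι] [DecidableEq ι] {F : Type u} [Field F] [Finite F]

theorem mat_prime (h2 : (2 : F) ≠ 0) {Q : QuadraticForm F (ι → F)} (hQ : Nondeg Q) (h5 : 5 ≤ Fintype.card ι)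
    {H P : Subgroup (GL ι F)} (hH : IsMaximalIn (omegaGL (Q : (ι → F) → F)) H) (hPc : IsResidualCore H P)
    {K : Subgroup P} (hK : K.index = Fintype.card ι + 1) {v0 : ι → F} (h0 : v0 ≠ 0)
    (hfix : ∀ k ∈ K, ((k : GL ι F) : Matrix ι ι F) *ᵥ v0 = v0) (hr : (Fintype.card ι).Prime) {x : P} (hx : x ∈ K)
    (hxr : x ^ Fintype.card ι = 1) (hx1 : x ≠ 1) (hP : ¬ Fintype.card ι ^ 2 ∣ Nat.card P) {m : ℕ}
    (hm : Fintype.card ι + 1 = m) :
    Nonempty (Soc P ≃* alternatingGroup (Fin m)) ∧ (m : F) ≠ 0 ∧ ((3 : F) ≠ 0 → (m : F) + 1 ≠ 0) := by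
  have hC : Core P := core_of_residual hPc
  have hG : Good Q := Cfsg.Agent.H883.Bridge.good_of_card hQ h5
  let E0 := glEquiv ι F
  have hap : ∀ (g : GL ι F) (v : ι → F), E0 g v = (g : Matrix ι ι F) *ᵥ v := fun g v => glEquiv_apply g v
  let P' : Subgroup ((ι → F) ≃ₗ[F] (ι → F)) := P.map E0.toMonoidHom
  let eP : P ≃* P' := E0.subgroupMap P
  have heP : ∀ g : P, ((eP g : P') : (ι → F) ≃ₗ[F] (ι → F)) = E0 (g : GL ι F) := fun _ => rfl
  let K' : Subgroup P' := K.map eP.toMonoidHom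
  have hKmem : ∀ g : P, eP g ∈ K' ↔ g ∈ K := fun g => Subgroup.mem_map_iff_mem eP.injective
  have hsurj : ∀ g' : P', ∃ g : P, eP g = g' := eP.surjective
  have hfin : Module.finrank F (ι → F) = Fintype.card ι := Module.finrank_fintype_fun_eq_card F
  have hirr : Irr P' := by
    intro W hW
    refine hC.absIrred.1 W fun s hs => ?_
    obtain ⟨g, hg, rfl⟩ := hs
    rintro _ ⟨w, hw, rfl⟩
    have := hW (E0 g) ⟨g, hg, rfl⟩ w hw
    rw [hap] at this
    rwa [Matrix.toLin'_apply]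
  have hK' : K'.index = Fintype.card ι + 1 := by
    rw [← hK]
    exact Subgroup.index_map_equiv K eP
  have hfix' : ∀ k ∈ K', (k : (ι → F) ≃ₗ[F] (ι → F)) v0 = v0 := by
    intro k hk
    obtain ⟨g, rfl⟩ := hsurj k
    rw [heP, hap]
    exact hfix g ((hKmem g).1 hk)
  have hPf : Finite P' := Finite.of_equiv _ eP.toEquiv
  have hpow : ∀ j : ℕ, (eP x) ^ j = eP (x ^ j) := fun j => (map_pow eP x j).symm
  have hxr' : (eP x) ^ Fintype.card ι = 1 := by rw [hpow, hxr, map_one]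
  have hx1' : eP x ≠ 1 := fun h => hx1 (eP.injective (h.trans (map_one eP).symm))
  have huniq : ∀ w : ι → F, ((x : GL ι F) : Matrix ι ι F) *ᵥ w = w → ∃ c : F, w = c • v0 := by
    intro w hw
    refine uniq_of_prime (P := P') (K := K') hirr hr hfin hK' h0 hfix' ((hKmem x).2 hx) hxr' hx1' ?_
    rw [heP, hap]
    exact hw
  have hdc : ∀ g ∉ K, ∀ g' ∉ K, ∃ k ∈ K, ∃ k' ∈ K, g' = k * g * k' := by
    obtain ⟨g1', hg1'⟩ := exists_conj_not_mem hirr h0 hfix' hx1'
    obtain ⟨g1, rfl⟩ := hsurj g1'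
    refine dc_of_prime hr hK hx hxr (g1 := g1) fun h => hg1' ?_
    rw [← map_inv, ← map_mul, ← map_mul, hKmem]
    exact h
  have : Fact (Fintype.card ι).Prime := ⟨hr⟩
  have hcz : Nat.card (Subgroup.zpowers x) = Fintype.card ι := by
    rw [Nat.card_zpowers]
    exact ((Nat.dvd_prime hr).1 (orderOf_dvd_of_pow_eq_one hxr)).resolve_left fun h => hx1 (orderOf_eq_one_iff.1 h)
  have hzp : IsPGroup (Fintype.card ι) (Subgroup.zpowers x) := IsPGroup.of_card (n := 1) (by rw [hcz, pow_one])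
  have hzi : ¬ Fintype.card ι ∣ (Subgroup.zpowers x).index := by
    intro hd
    apply hP
    rw [← (Subgroup.zpowers x).card_mul_index, hcz, pow_two]
    exact mul_dvd_mul_left _ hd
  have hxfix : ∀ u ∈ Subgroup.zpowers x, ((u : GL ι F) : Matrix ι ι F) *ᵥ v0 = v0 := fun u hu =>
    hfix u ((Subgroup.zpowers_le.2 hx) hu)
  have hl := lines_of_sylow (H := H) (hzp.toSylow hzi) (v0 := v0) (fun u hu => hxfix u hu)
    (fun w hw => huniq w (hw x (Subgroup.mem_zpowers x))) hPc.normal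
  exact mat_main h2 hQ h5 hH hPc hK h0 hfix hdc hl hm

end Cfsg.Agent.H882.Del
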