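import Cfsg.Agent.SporadicA.GolayPerm
import Cfsg.Prelude.Def_Spor_Mathieu
import Cfsg.Agent.H882.Del.DimEl

/-!
# Explicit elements of `M₁₁ ≤ M₁₂` (helper882)

Packed tables as in `SporadicA/GolayPerm`.
-/

set_option autoImplicit false

namespace Cfsg.Agent.H882.Tab

open Cfsg Cfsg.Agent.SporadicA.GolayBase Cfsg.Agent.SporadicA.GolayPerm
open scoped Pointwise

/-- The permutation `g` has the packed table `P`. -/
def IsT (g : Equiv.Perm GolayPt) (P : ℕ) : Prop := ∀ p : GolayPt, idx (g p) = papp P (idx p)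

theorem IsT.mul {g h : Equiv.Perm GolayPt} {P Q : ℕ} (hg : IsT g P) (hh : IsT h Q) : IsT (g * h) (pcomp P Q) := by
  intro p
  rw [papp_pcomp P Q (idx_lt p), ← hh p, ← hg]
  rfl

theorem IsT.eq {g h : Equiv.Perm GolayPt} {P Q : ℕ} (hg : IsT g P) (hh : IsT h Q) (e : Nat.beq P Q = true) : g = h := by
  apply Equiv.ext
  intro p
  apply idx_injective
  rw [hg, hh, Nat.eq_of_beq_eq_true e]

/-- The table of the identity. -/
def pone : ℕ := 984818244535754528103549039458486304

theorem isT_one : IsT 1 pone := by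
  have h : ∀ p : GolayPt, idx p = papp pone (idx p) := by decide +kernel
  exact h

theorem squareDodecad_eq : Spor.squareDodecad = fin 340831 := by
  have h : ∀ p : GolayPt, qrWord 0 p ≠ 0 ↔ (340831 : ℕ).testBit (idx p) = true := by decide +kernel
  ext p
  rw [mem_fin, ← h]
  unfold Spor.squareDodecad
  exact mem_support₂

/-- Whether `P` is the table of an element of `M₁₂`. -/
def ok12 (P : ℕ) : Bool := isPerm P && isAut P && Nat.beq (pimg P 340831) 340831

/-- Whether `P` is the table of an element of `M₁₁`. -/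
def ok11 (P : ℕ) : Bool := ok12 P && Nat.beq (papp P 0) 0

theorem ok12_iff {P : ℕ} : ok12 P = true ↔ (isPerm P = true ∧ isAut P = true) ∧ pimg P 340831 = 340831 := by
  unfold ok12
  rw [Bool.and_eq_true, Bool.and_eq_true, Nat.beq_eq]

theorem ok11_iff {P : ℕ} : ok11 P = true ↔ ok12 P = true ∧ papp P 0 = 0 := by
  unfold ok11
  rw [Bool.and_eq_true, Nat.beq_eq]

/-- The element of `M₁₂` with a given table. -/
noncomputable def mk12 (P : ℕ) (h : ok12 P = true) : Spor.M12 :=
  ⟨permOf P (ok12_iff.1 h).1.1, permOf_mem_M24 _ (ok12_iff.1 h).1.2, by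
    show permOf P _ • Spor.squareDodecad = Spor.squareDodecad
    rw [squareDodecad_eq, smul_fin, (ok12_iff.1 h).2]⟩

theorem isT_mk12 (P : ℕ) (h : ok12 P = true) : IsT (mk12 P h : Spor.M12) P := fun p => idx_permOf (ok12_iff.1 h).1.1 p

/-- The element of `M₁₁` with a given table. -/
noncomputable def mk11 (P : ℕ) (h : ok11 P = true) : Spor.M11 :=
  ⟨mk12 P (ok11_iff.1 h).1, (mk12 P (ok11_iff.1 h).1).2, by
    show (mk12 P (ok11_iff.1 h).1 : Equiv.Perm GolayPt) (some 0) = some 0
    apply idx_injective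
    rw [isT_mk12]
    exact (ok11_iff.1 h).2⟩

theorem isT_mk11 (P : ℕ) (h : ok11 P = true) : IsT (mk11 P h : Spor.M11) P := fun p => isT_mk12 P (ok11_iff.1 h).1 p

def tA : ℕ := 984642754306893001986305023279301696
def tB : ℕ := 970254902120350598020240965873371168
def tY : ℕ := 969077489916502254098451918490835040
def tX : ℕ := 969890181916314106754665209951006976
def tE : ℕ := 444255066258492725059224347437270304
def tS : ℕ := 309395026832966892341381945027152256
def tKA : ℕ := 320202802741280343566077546381881600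
def tKX : ℕ := 649959366045810076664923100633546784
def tJ : ℕ := 984725144168464207694692636155920452
def tT : ℕ := 1795248432537898728475572672376535
def tK3 : ℕ := 591420062262555869380016019057149350
def tK4 : ℕ := 309650488557874025792959714402910630
def tK5 : ℕ := 846006693608837152970871019869210130
def tK6 : ℕ := 313302025185078576546812869854113987

noncomputable def A : Spor.M11 := mk11 tA (by decide +kernel)
noncomputable def B : Spor.M11 := mk11 tB (by decide +kernel)
noncomputable def Y : Spor.M11 := mk11 tY (by decide +kernel)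
noncomputable def X : Spor.M11 := mk11 tX (by decide +kernel)
noncomputable def E : Spor.M11 := mk11 tE (by decide +kernel)
noncomputable def S : Spor.M11 := mk11 tS (by decide +kernel)
noncomputable def KA : Spor.M11 := mk11 tKA (by decide +kernel)
noncomputable def KX : Spor.M11 := mk11 tKX (by decide +kernel)
noncomputable def J : Spor.M12 := mk12 tJ (by decide +kernel)
noncomputable def K3 : Spor.M12 := mk12 tK3 (by decide +kernel)
noncomputable def K4 : Spor.M12 := mk12 tK4 (by decide +kernel)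
noncomputable def K5 : Spor.M12 := mk12 tK5 (by decide +kernel)
noncomputable def K6 : Spor.M12 := mk12 tK6 (by decide +kernel)

theorem iA : IsT A tA := isT_mk11 _ _
theorem iB : IsT B tB := isT_mk11 _ _
theorem iY : IsT Y tY := isT_mk11 _ _
theorem iX : IsT X tX := isT_mk11 _ _
theorem iE : IsT E tE := isT_mk11 _ _
theorem iS : IsT S tS := isT_mk11 _ _
theorem iKA : IsT KA tKA := isT_mk11 _ _
theorem iKX : IsT KX tKX := isT_mk11 _ _
theorem iJ : IsT J tJ := isT_mk12 _ _
theorem iK3 : IsT K3 tK3 := isT_mk12 _ _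
theorem iK4 : IsT K4 tK4 := isT_mk12 _ _
theorem iK5 : IsT K5 tK5 := isT_mk12 _ _
theorem iK6 : IsT K6 tK6 := isT_mk12 _ _
theorem iT : IsT projInv tT := by
  have h : ∀ p : GolayPt, idx (projInv p) = papp tT (idx p) := by decide +kernel
  exact h

theorem eq11 {g h : Spor.M11} {P Q : ℕ} (hg : IsT g P) (hh : IsT h Q) (e : Nat.beq P Q = true) : g = h :=
  Subtype.ext (IsT.eq hg hh e)

theorem m11 {g h : Spor.M11} {P Q : ℕ} (hg : IsT g P) (hh : IsT h Q) : IsT (g * h : Spor.M11) (pcomp P Q) :=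
  IsT.mul hg hh

theorem one11 : IsT (1 : Spor.M11) pone := isT_one

theorem eq12 {g h : Spor.M12} {P Q : ℕ} (hg : IsT g P) (hh : IsT h Q) (e : Nat.beq P Q = true) : g = h :=
  Subtype.ext (IsT.eq hg hh e)

theorem m12 {g h : Spor.M12} {P Q : ℕ} (hg : IsT g P) (hh : IsT h Q) : IsT (g * h : Spor.M12) (pcomp P Q) :=
  IsT.mul hg hh

theorem one12 : IsT (1 : Spor.M12) pone := isT_one

open Cfsg.Agent.H882.Dim

theorem rel : R11 A B Y X E S where
  haa := eq11 (m11 iA iA) one11 (by decide +kernel)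
  hbb := eq11 (m11 iB iB) one11 (by decide +kernel)
  hab := eq11 (m11 iA iB) (m11 iB iA) (by decide +kernel)
  hy := eq11 (m11 (m11 iY iY) iY) one11 (by decide +kernel)
  hya := eq11 (m11 iY iA) (m11 iB iY) (by decide +kernel)
  hyb := eq11 (m11 iY iB) (m11 (m11 iA iB) iY) (by decide +kernel)
  hx := eq11 (m11 (m11 iX iX) iX) one11 (by decide +kernel)
  hax := eq11 (m11 iA iX) (m11 iX iA) (by decide +kernel)
  hbx := eq11 (m11 iB iX) (m11 (m11 iX iX) iB) (by decide +kernel)
  he := eq11 (m11 (m11 iE iE) iE) one11 (by decide +kernel)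
  hxe := eq11 (m11 iX iE) (m11 iE iX) (by decide +kernel)
  hae := eq11 (m11 iA iE) (m11 (m11 iE iE) iA) (by decide +kernel)
  hzz := eq11 (m11 (m11 (m11 iS iS) (m11 iS iS)) (m11 (m11 iS iS) (m11 iS iS))) one11 (by decide +kernel)
  haz := eq11 (m11 iA (m11 (m11 iS iS) (m11 iS iS))) (m11 (m11 (m11 iS iS) (m11 iS iS)) iA) (by decide +kernel)
  hat := eq11 (m11 iA (m11 iS iS)) (m11 (m11 (m11 (m11 iS iS) (m11 iS iS)) (m11 iS iS)) iA) (by decide +kernel)
  hsx := eq11 (m11 iS iX) (m11 (m11 iX iE) iS) (by decide +kernel)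
  hse := eq11 (m11 iS iE) (m11 (m11 (m11 iX iX) iE) iS) (by decide +kernel)
  htx := eq11 (m11 (m11 iS iS) iX) (m11 (m11 iE iE) (m11 iS iS)) (by decide +kernel)
  hte := eq11 (m11 (m11 iS iS) iE) (m11 iX (m11 iS iS)) (by decide +kernel)
  hzx := eq11 (m11 (m11 (m11 iS iS) (m11 iS iS)) iX) (m11 (m11 iX iX) (m11 (m11 iS iS) (m11 iS iS))) (by decide +kernel)
  hze := eq11 (m11 (m11 (m11 iS iS) (m11 iS iS)) iE) (m11 (m11 iE iE) (m11 (m11 iS iS) (m11 iS iS))) (by decide +kernel)
  hca := isConj_iff.2 ⟨KA, conj_eq (eq11 (m11 iKA iA) (m11 (m11 (m11 iS iS) (m11 iS iS)) iKA) (by decide +kernel))⟩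
  hcx := isConj_iff.2 ⟨KX, conj_eq (eq11 (m11 iKX iX) (m11 iY iKX) (by decide +kernel))⟩

end Cfsg.Agent.H882.Tab
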